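import Groth.Agent.CAlg.K75.WeakAss
import Mathlib.RingTheory.Support
import Mathlib.RingTheory.Ideal.AssociatedPrime.Finiteness

/-! Associated primes over Noetherian rings. -/

set_option autoImplicit false
universe u v w

namespace K75.AssNoeth

open FlatCA Groth.Agent.Flat2B.WeakAss K75.WeakAss

theorem mem_associatedPrimes_of_mem_weakAss {R : Type u} [CommRing R] [IsNoetherianRing R] {M : Type v}
    [AddCommGroup M] [Module R M] {p : Ideal R} (h : p ∈ weakAss R M) : p ∈ associatedPrimes R M := by
  have h' := mem_ass_of_mem_weakAss_of_fg (IsNoetherian.noetherian p) h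
  rw [mem_ass_iff] at h'
  obtain ⟨hp, m, hm⟩ := h'
  refine (isAssociatedPrime_iff).mpr ⟨hp, m, ?_⟩
  ext a
  rw [Submodule.mem_colon_singleton, Submodule.mem_bot, hm]

theorem mem_associatedPrimes_of_minimal {R : Type u} [CommRing R] [IsNoetherianRing R] (M : Type v)
    [AddCommGroup M] [Module R M] (p : PrimeSpectrum R)
    (hp : Minimal (fun q : PrimeSpectrum R => q ∈ Module.support R M) p) :
    p.asIdeal ∈ associatedPrimes R M := by
  apply mem_associatedPrimes_of_mem_weakAss
  have h1 : p ∈ Module.support R M := hp.1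
  rw [Module.mem_support_iff_exists_annihilator] at h1
  obtain ⟨m, hm⟩ := h1
  refine ⟨m, ⟨⟨p.isPrime, hm⟩, fun q ⟨hq, hle⟩ hqp => ?_⟩⟩
  have : (⟨q, hq⟩ : PrimeSpectrum R) ∈ Module.support R M := by
    rw [Module.mem_support_iff_exists_annihilator]
    exact ⟨m, hle⟩
  exact hp.2 this hqp

theorem no_embedded {R : Type u} [CommRing R] [IsNoetherianRing R] (M : Type u) [AddCommGroup M] [Module R M]
    [Module.Finite R M]
    (hM : ∀ p ∈ associatedPrimes R M, ∀ q ∈ associatedPrimes R M, p ≤ q → p = q) :
    ∀ p ∈ associatedPrimes (R ⧸ Module.annihilator R M) (R ⧸ Module.annihilator R M),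
      ∀ q ∈ associatedPrimes (R ⧸ Module.annihilator R M) (R ⧸ Module.annihilator R M), p ≤ q → p = q := by
  let I := Module.annihilator R M
  -- `R ⧸ I` embeds in a finite power of `M`
  obtain ⟨n, x, hx⟩ := Module.Finite.exists_fin (R := R) (M := M)
  let φ : R →ₗ[R] (Fin n → M) := LinearMap.pi (fun i => LinearMap.toSpanSingleton R M (x i))
  have hφ : LinearMap.ker φ = I := by
    ext a
    rw [LinearMap.mem_ker, Module.mem_annihilator]
    constructor
    · intro h m
      have hm : m ∈ Submodule.span R (Set.range x) := by rw [hx]; trivial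
      induction hm using Submodule.span_induction with
      | mem y hy => obtain ⟨i, rfl⟩ := hy; exact congrFun h i
      | zero => simp
      | add y z _ _ hy hz => rw [smul_add, hy, hz, add_zero]
      | smul c y _ hy => rw [smul_comm, hy, smul_zero]
    · intro h
      ext i
      exact h (x i)
  let ψ : (R ⧸ I) →ₗ[R] (Fin n → M) := Submodule.liftQ I φ hφ.ge
  have hψ : Function.Injective ψ := by
    rw [← LinearMap.ker_eq_bot]
    exact Submodule.ker_liftQ_eq_bot' _ _ hφ.symm
  have hpow : ∀ n : ℕ, associatedPrimes R (Fin n → M) ⊆ associatedPrimes R M := by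
    intro n
    induction n with
    | zero => rw [associatedPrimes.eq_empty_of_subsingleton]; exact Set.empty_subset _
    | succ n ih =>
      rw [LinearEquiv.AssociatedPrimes.eq (Fin.consLinearEquiv R (fun _ : Fin (n + 1) => M)).symm,
        associatedPrimes.prod]
      exact Set.union_subset subset_rfl ih
  have hsub : associatedPrimes R (R ⧸ I) ⊆ associatedPrimes R M :=
    (associatedPrimes.subset_of_injective hψ).trans (hpow n)
  have hc : ∀ p ∈ associatedPrimes (R ⧸ I) (R ⧸ I), p.comap (Ideal.Quotient.mk I) ∈ associatedPrimes R M := by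
    intro p hp
    apply hsub
    apply mem_associatedPrimes_of_mem_weakAss
    rw [weakAss_eq_image_comap_of_surjective (R' := R ⧸ I) Ideal.Quotient.mk_surjective]
    exact ⟨p, mem_weakAss_of_isAssociatedPrime hp, rfl⟩
  intro p hp q hq hle
  have := hM _ (hc p hp) _ (hc q hq) (Ideal.comap_mono hle)
  exact Ideal.comap_injective_of_surjective _ Ideal.Quotient.mk_surjective this

end K75.AssNoeth
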