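import Groth.Agent.Ega41.CohenLift
import Mathlib.RingTheory.DiscreteValuationRing.Basic

/-! # Quotients of Cohen rings are formally smooth over `ℤ/p^n` -/

set_option autoImplicit false
universe u

namespace K75.CohenSmooth

open TensorProduct IsLocalRing Groth.Agent.Ega41

/-- `B` formally smooth over `R'`, `R ≃ R'` compatibly: `B` is formally smooth over `R`. -/
theorem formallySmooth_of_ringEquiv {R R' B : Type*} [CommRing R] [CommRing R'] [CommRing B] [Algebra R B]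
    [Algebra R' B] (e : R ≃+* R') (he : (algebraMap R' B).comp (e : R →+* R') = algebraMap R B)
    [Algebra.FormallySmooth R' B] : Algebra.FormallySmooth R B := by
  let _ : Algebra R R' := (e : R →+* R').toAlgebra
  have h1 : Algebra.FormallySmooth R R' :=
    Algebra.FormallySmooth.of_equiv (R := R) (A := R) (AlgEquiv.ofRingEquiv (f := e) (fun _ => rfl))
  have h2 : IsScalarTower R R' B := IsScalarTower.of_algebraMap_eq (fun x => by rw [← he]; rfl)
  exact Algebra.FormallySmooth.comp R R' B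

theorem formallySmooth_quotient (Λ : Type u) [CommRing Λ] [IsDomain Λ]
    [IsLocalRing Λ] (p : ℕ)
    (hp : p.Prime) (hp0 : (p : Λ) ≠ 0) (hm : IsLocalRing.maximalIdeal Λ = Ideal.span {(p : Λ)}) (n : ℕ) (hn : 1 ≤ n)
    [Algebra (ZMod (p ^ n)) (Λ ⧸ Ideal.span {((p : Λ) ^ n)})] :
    Algebra.FormallySmooth (ZMod (p ^ n)) (Λ ⧸ Ideal.span {((p : Λ) ^ n)}) := by
  obtain ⟨k, rfl⟩ : ∃ k, n = k + 1 := ⟨n - 1, by omega⟩
  have : Fact p.Prime := ⟨hp⟩
  have hflat := CohenLift.flat_int_of_cohen p Λ hm hp0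
  let I : Ideal ℤ := Ideal.span {(p : ℤ)}
  have h1 := FlatNilp.formallySmooth_quotient_pow (B := Λ) I (CohenLift.formallySmooth_cohen_mod p Λ hm) k
  let J := I ^ (k + 1)
  have hJ : J.map (algebraMap ℤ Λ) = Ideal.span {((p : Λ) ^ (k + 1))} := by
    rw [Ideal.map_pow, Ideal.map_span, Set.image_singleton, Ideal.span_singleton_pow]
    simp
  have hJ' : J = Ideal.span {((p ^ (k + 1) : ℕ) : ℤ)} := by
    change Ideal.span {(p : ℤ)} ^ (k + 1) = _
    rw [Ideal.span_singleton_pow]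
    simp
  have h2 : Algebra.FormallySmooth (ℤ ⧸ J) (Λ ⧸ J.map (algebraMap ℤ Λ)) :=
    Algebra.FormallySmooth.of_equiv (Algebra.TensorProduct.quotIdealMapEquivQuotTensor Λ J).symm
  let f : (Λ ⧸ J.map (algebraMap ℤ Λ)) ≃+* (Λ ⧸ Ideal.span {((p : Λ) ^ (k + 1))}) := Ideal.quotEquivOfEq hJ
  let _ : Algebra (ℤ ⧸ J) (Λ ⧸ Ideal.span {((p : Λ) ^ (k + 1))}) := (f.toRingHom.comp (algebraMap _ _)).toAlgebra
  have h3 : Algebra.FormallySmooth (ℤ ⧸ J) (Λ ⧸ Ideal.span {((p : Λ) ^ (k + 1))}) :=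
    Algebra.FormallySmooth.of_equiv (AlgEquiv.ofRingEquiv (f := f) (fun x => rfl))
  let e : ZMod (p ^ (k + 1)) ≃+* (ℤ ⧸ J) :=
    (Int.quotientSpanNatEquivZMod (p ^ (k + 1))).symm.trans (Ideal.quotEquivOfEq hJ'.symm)
  exact formallySmooth_of_ringEquiv e (Subsingleton.elim _ _)

end K75.CohenSmooth
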