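import Groth.Agent.FlatA.FiniteFreeSplit
import Mathlib.RingTheory.Etale.StandardEtale
import Mathlib.RingTheory.Unramified.LocalStructure
import Mathlib.RingTheory.LocalRing.ResidueField.Ideal
import Mathlib.RingTheory.Finiteness.ModuleFinitePresentation
import Mathlib.RingTheory.Spectrum.Prime.Chevalley

/-! # Finite flat covers dominating (standard) étale algebras -/

set_option autoImplicit false
universe u v

namespace K75.EtaleFinFlat

open TensorProduct Polynomial

/-- two primes over the same prime are the kernels of maps to a common field -/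
theorem exists_common_field {R S S' : Type u} [CommRing R] [CommRing S] [CommRing S'] [Algebra R S] [Algebra R S']
    (q : Ideal S) [q.IsPrime] (q' : Ideal S') [q'.IsPrime] (h : q'.under R = q.under R) :
    ∃ (K : Type u) (_ : Field K) (φ₁ : S →+* K) (φ₂ : S' →+* K), RingHom.ker φ₁ = q ∧ RingHom.ker φ₂ = q' ∧
      φ₁.comp (algebraMap R S) = φ₂.comp (algebraMap R S') := by
  let p := q.under R
  let f₁ : p.ResidueField →+* q.ResidueField := Ideal.ResidueField.map p q (algebraMap R S) rfl
  let f₂ : p.ResidueField →+* q'.ResidueField := Ideal.ResidueField.map p q' (algebraMap R S') h.symm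
  let _ : Algebra p.ResidueField q.ResidueField := f₁.toAlgebra
  let _ : Algebra p.ResidueField q'.ResidueField := f₂.toAlgebra
  obtain ⟨m, hm⟩ := Ideal.exists_maximal (q.ResidueField ⊗[p.ResidueField] q'.ResidueField)
  let K := (q.ResidueField ⊗[p.ResidueField] q'.ResidueField) ⧸ m
  let g₁ : q.ResidueField →+* K := (Ideal.Quotient.mk m).comp
    (Algebra.TensorProduct.includeLeft (R := p.ResidueField) (S := p.ResidueField)
      (A := q.ResidueField) (B := q'.ResidueField)).toRingHom
  let g₂ : q'.ResidueField →+* K := (Ideal.Quotient.mk m).comp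
    (Algebra.TensorProduct.includeRight (R := p.ResidueField)
      (A := q.ResidueField) (B := q'.ResidueField)).toRingHom
  let fK : Field K := Ideal.Quotient.field m
  have hg : g₁.comp f₁ = g₂.comp f₂ := by
    ext a
    change Ideal.Quotient.mk m ((f₁ (algebraMap R _ a)) ⊗ₜ 1) = Ideal.Quotient.mk m (1 ⊗ₜ (f₂ (algebraMap R _ a)))
    congr 1
    have h3 : f₁ (algebraMap R _ a) = (algebraMap R p.ResidueField a) • (1 : q.ResidueField) := by
      rw [Algebra.smul_def, mul_one]; rfl
    have h4 : f₂ (algebraMap R _ a) = (algebraMap R p.ResidueField a) • (1 : q'.ResidueField) := by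
      rw [Algebra.smul_def, mul_one]; rfl
    rw [h3, h4, TensorProduct.smul_tmul]
  refine ⟨K, fK, g₁.comp (algebraMap S _), g₂.comp (algebraMap S' _), ?_, ?_, ?_⟩
  · rw [← RingHom.comap_ker, (RingHom.injective_iff_ker_eq_bot g₁).mp g₁.injective, ← RingHom.ker_eq_comap_bot,
      Ideal.ker_algebraMap_residueField]
  · rw [← RingHom.comap_ker, (RingHom.injective_iff_ker_eq_bot g₂).mp g₂.injective, ← RingHom.ker_eq_comap_bot,
      Ideal.ker_algebraMap_residueField]
  · have e1 : (algebraMap S q.ResidueField).comp (algebraMap R S) = f₁.comp (algebraMap R p.ResidueField) := by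
      ext a; exact (Ideal.ResidueField.map_algebraMap _ _ _ _ _).symm
    have e2 : (algebraMap S' q'.ResidueField).comp (algebraMap R S') = f₂.comp (algebraMap R p.ResidueField) := by
      ext a; exact (Ideal.ResidueField.map_algebraMap _ _ _ _ _).symm
    calc (g₁.comp (algebraMap S _)).comp (algebraMap R S) = g₁.comp (f₁.comp (algebraMap R p.ResidueField)) := by
          rw [RingHom.comp_assoc, e1]
      _ = g₂.comp (f₂.comp (algebraMap R p.ResidueField)) := by rw [← RingHom.comp_assoc, ← RingHom.comp_assoc, hg]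
      _ = _ := (congrArg g₂.comp e2.symm).trans (RingHom.comp_assoc _ _ _).symm

/-- A finite free cover splitting the polynomial of a standard étale pair dominates the algebra locally;
moreover the prime can be prescribed. -/
theorem exists_algHom_prime {A : Type u} [CommRing A] (P : StandardEtalePair A)
    {B : Type u} [CommRing B] [Algebra A B] (s : Multiset B)
    (hs : P.f.map (algebraMap A B) = (s.map (fun a => X - C a)).prod)
    (q : Ideal P.Ring) [q.IsPrime] (q' : Ideal B) [q'.IsPrime] (hq : q'.under A = q.under A) :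
    ∃ (b : B) (_ : b ∉ q') (φ : P.Ring →ₐ[A] Localization.Away b),
      (q'.map (algebraMap B (Localization.Away b))).comap φ = q := by
  obtain ⟨K, _, φ₁, φ₂, hφ₁, hφ₂, h⟩ := exists_common_field (R := A) q q' hq
  let algAK : Algebra A K := (φ₂.comp (algebraMap A B)).toAlgebra
  let ψ₁ : P.Ring →ₐ[A] K := { φ₁ with commutes' := fun a => congrArg (fun g : A →+* K => g a) h }
  let ψ₂ : B →ₐ[A] K := { φ₂ with commutes' := fun a => rfl }
  have hx : P.HasMap (ψ₁ P.X) := StandardEtalePair.hasMap_X.map ψ₁
  obtain ⟨a, ha, hax⟩ : ∃ a ∈ s, ψ₁ P.X = ψ₂ a := by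
    have h0 : (s.map (fun a => ψ₁ P.X - ψ₂ a)).prod = 0 := by
      have h1 := hx.1
      have h2 : aeval (ψ₁ P.X) P.f = eval₂ (ψ₂ : B →+* K) (ψ₁ P.X) (P.f.map (algebraMap A B)) := by
        rw [eval₂_map, aeval_def]
        rfl
      rw [h2, hs, ← coe_eval₂RingHom, map_multiset_prod, Multiset.map_map] at h1
      convert! h1 using 3
      simp
    rw [Multiset.prod_eq_zero_iff, Multiset.mem_map] at h0
    obtain ⟨a, ha, hax⟩ := h0
    exact ⟨a, ha, sub_eq_zero.mp hax⟩
  have hfa : aeval a P.f = 0 := by
    have h2 : aeval a P.f = eval a (P.f.map (algebraMap A B)) := by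
      rw [eval_map, aeval_def]
    rw [h2, hs, eval_multiset_prod]
    apply Multiset.prod_eq_zero
    rw [Multiset.map_map, Multiset.mem_map]
    exact ⟨a, ha, by simp⟩
  have hga : ψ₂ (aeval a P.g) ≠ 0 := by
    have h3 : ψ₂ (aeval a P.g) = aeval (ψ₁ P.X) P.g := by
      rw [← aeval_algHom_apply, ← hax]
    rw [h3]
    exact hx.2.ne_zero
  let b := aeval a P.g
  have hb : b ∉ q' := by
    intro hb
    rw [← hφ₂] at hb
    exact hga hb
  have hmap : P.HasMap (algebraMap B (Localization.Away b) a) := by
    refine ⟨?_, ?_⟩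
    · rw [aeval_algebraMap_apply, hfa, map_zero]
    · rw [aeval_algebraMap_apply]
      exact IsLocalization.Away.algebraMap_isUnit _
  refine ⟨b, hb, P.lift (algebraMap B (Localization.Away b) a) hmap, ?_⟩
  -- the extension of ψ₂ to the localization
  let χ : Localization.Away b →+* K := IsLocalization.Away.lift (S := Localization.Away b) b (g := φ₂)
    (isUnit_iff_ne_zero.mpr hga)
  have hχ : χ.comp (algebraMap B (Localization.Away b)) = φ₂ := IsLocalization.Away.lift_comp _ _
  have hχ' : ∀ x, χ (algebraMap B (Localization.Away b) x) = φ₂ x := fun x => by rw [← hχ]; rfl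
  have hker : q'.map (algebraMap B (Localization.Away b)) = RingHom.ker χ := by
    have h1 : (RingHom.ker χ).comap (algebraMap B (Localization.Away b)) = q' := by
      rw [RingHom.comap_ker, hχ, hφ₂]
    rw [← h1]
    exact IsLocalization.map_under (Submonoid.powers b) _ _
  let χA : Localization.Away b →ₐ[A] K := { χ with
    commutes' := fun a => by
      change χ (algebraMap A _ a) = _
      rw [IsScalarTower.algebraMap_apply A B, hχ']
      rfl }
  have hcomp : χA.comp (P.lift (algebraMap B (Localization.Away b) a) hmap) = ψ₁ := by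
    apply P.hom_ext
    rw [AlgHom.comp_apply, P.lift_X]
    change χ (algebraMap B _ a) = ψ₁ P.X
    rw [hχ', hax]
    rfl
  rw [hker]
  ext x
  rw [Ideal.mem_comap, RingHom.mem_ker, ← hφ₁, RingHom.mem_ker]
  have := DFunLike.congr_fun hcomp x
  change χ (P.lift (algebraMap B (Localization.Away b) a) hmap x) = φ₁ x at this
  change χ (P.lift (algebraMap B (Localization.Away b) a) hmap x) = 0 ↔ _
  rw [this]

/-- (S9453) -/
theorem exists_cover_of_isStandardEtale (R : Type u) [CommRing R] (S : Type u)
    [CommRing S] [Algebra R S] [Algebra.IsStandardEtale R S] :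
    ∃ (S' : Type u) (_ : CommRing S') (_ : Algebra R S'),
      Module.Finite R S' ∧ Module.Free R S' ∧ Algebra.FinitePresentation R S' ∧ Module.FaithfullyFlat R S' ∧
        ∀ (q : Ideal S) [q.IsPrime] (q' : Ideal S') [q'.IsPrime], q'.under R = q.under R →
          ∃ (g' : S') (_ : g' ∉ q') (φ : S →ₐ[R] Localization.Away g'),
            (q'.map (algebraMap S' (Localization.Away g'))).comap φ = q := by
  obtain ⟨P⟩ := Algebra.IsStandardEtale.nonempty_standardEtalePresentation (R := R) (S := S)
  obtain ⟨B, _, _, hfin, hfree, hff, s, hs⟩ :=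
    Groth.Agent.FlatA.FiniteFreeSplit.exists_finite_free_splits P.f P.monic_f
  have hfp : Algebra.FinitePresentation R B := by
    have : Module.FinitePresentation R B := Module.finitePresentation_of_projective _ _
    infer_instance
  refine ⟨B, inferInstance, inferInstance, hfin, hfree, hfp, hff, fun q _ q' _ hqq' => ?_⟩
  let e : S ≃ₐ[R] P.Ring := P.equivRing
  have hq₁ : (q.comap e.symm).under R = q.under R := by
    ext a
    rw [Ideal.mem_comap, Ideal.mem_comap, Ideal.mem_comap, AlgEquiv.commutes]
  obtain ⟨b, hb, φ, hφ⟩ := exists_algHom_prime P.P s hs (q.comap e.symm) q' (hqq'.trans hq₁.symm)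
  refine ⟨b, hb, φ.comp e.toAlgHom, ?_⟩
  ext x
  have := congrArg (fun I : Ideal P.Ring => e x ∈ I) hφ
  simp only [Ideal.mem_comap, AlgEquiv.symm_apply_apply] at this
  rw [Ideal.mem_comap, ← this]
  rfl

/-- Condition: locally at the primes over `V`, the algebra `S'` is dominated by `S`. -/
def Dom (R S : Type u) [CommRing R] [CommRing S] [Algebra R S] (V : Set (PrimeSpectrum R)) : Prop :=
  ∃ (S' : Type u) (_ : CommRing S') (_ : Algebra R S'),
      Module.Finite R S' ∧ Module.Free R S' ∧ Module.FaithfullyFlat R S' ∧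
        ∀ (q' : Ideal S') [q'.IsPrime], PrimeSpectrum.comap (algebraMap R S') ⟨q', inferInstance⟩ ∈ V →
          ∃ (g' : S') (_ : g' ∉ q'), Nonempty (S →ₐ[R] Localization.Away g')

theorem exists_algHom_of_algHom {R S A B : Type u} [CommRing R] [CommRing S] [Algebra R S] [CommRing A] [Algebra R A]
    [CommRing B] [Algebra R B] (f : A →ₐ[R] B) (q' : Ideal B) (g : A) (hg : f g ∉ q')
    (h : Nonempty (S →ₐ[R] Localization.Away g)) : ∃ (g' : B) (_ : g' ∉ q'), Nonempty (S →ₐ[R] Localization.Away g') := by
  obtain ⟨φ⟩ := h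
  exact ⟨f g, hg, ⟨(Localization.awayMapₐ f g).comp φ⟩⟩

theorem dom_univ_of_etale (R : Type u) [CommRing R] (S : Type u) [CommRing S] [Algebra R S] [Algebra.Etale R S]
    (hs : Function.Surjective (PrimeSpectrum.comap (algebraMap R S))) : Dom R S Set.univ := by
  refine IsCompact.induction_on (isCompact_univ (X := PrimeSpectrum R)) (p := fun V => Dom R S V) ?_ ?_ ?_ ?_
  · exact ⟨R, inferInstance, inferInstance, inferInstance, inferInstance, inferInstance,
      fun q' _ h => h.elim⟩
  · rintro s t hst ⟨S', _, _, h1, h2, h3, h4⟩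
    exact ⟨S', inferInstance, inferInstance, h1, h2, h3, fun q' _ h => h4 q' (hst h)⟩
  · rintro s t ⟨S₁, _, _, h1, h2, h3, h4⟩ ⟨S₂, _, _, h1', h2', h3', h4'⟩
    have : Module.FaithfullyFlat R (S₁ ⊗[R] S₂) := Module.FaithfullyFlat.trans R S₁ (S₁ ⊗[R] S₂)
    refine ⟨S₁ ⊗[R] S₂, inferInstance, inferInstance, Module.Finite.trans S₁ _, Module.Free.trans (S := S₁),
      inferInstance, fun q' _ h => ?_⟩
    rcases h with h | h
    · let f : S₁ →ₐ[R] S₁ ⊗[R] S₂ := Algebra.TensorProduct.includeLeft
      obtain ⟨g, hg, hS⟩ := h4 (q'.comap f) (by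
        convert h using 1
        ext x
        simp)
      exact exists_algHom_of_algHom f q' g hg hS
    · let f : S₂ →ₐ[R] S₁ ⊗[R] S₂ := Algebra.TensorProduct.includeRight
      obtain ⟨g, hg, hS⟩ := h4' (q'.comap f) (by
        convert h using 1
        ext x
        simp)
      exact exists_algHom_of_algHom f q' g hg hS
  · intro x _
    obtain ⟨y, rfl⟩ := hs x
    obtain ⟨f, hf, hst⟩ := Algebra.IsEtaleAt.exists_isStandardEtale (R := R) (S := S) y.asIdeal
    obtain ⟨S', _, _, h1, h2, -, h3, h4⟩ := exists_cover_of_isStandardEtale R (Localization.Away f)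
    refine ⟨PrimeSpectrum.comap (algebraMap R S) '' (PrimeSpectrum.basicOpen f : Set (PrimeSpectrum S)),
      mem_nhdsWithin_of_mem_nhds ?_, S', inferInstance, inferInstance, h1, h2, h3, fun q' _ h => ?_⟩
    · refine IsOpen.mem_nhds ?_ ⟨y, hf, rfl⟩
      exact PrimeSpectrum.isOpenMap_comap_of_hasGoingDown_of_finitePresentation _
        (PrimeSpectrum.basicOpen f).2
    · obtain ⟨z, hz, hzq⟩ := h
      obtain ⟨w, rfl⟩ : z ∈ Set.range (PrimeSpectrum.comap (algebraMap S (Localization.Away f))) := by
        rw [PrimeSpectrum.localization_away_comap_range (Localization.Away f) f]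
        exact hz
      obtain ⟨g', hg', φ, -⟩ := h4 w.asIdeal q' (by
        rw [← PrimeSpectrum.comap_comp_apply, ← IsScalarTower.algebraMap_eq] at hzq
        exact (congrArg PrimeSpectrum.asIdeal hzq).symm)
      exact ⟨g', hg', ⟨φ.comp (Algebra.algHom R S (Localization.Away f))⟩⟩

end K75.EtaleFinFlat
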