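import Groth.Agent.FlatA.ModelFlat
import Groth.Agent.Smoothlim.FlatColimMod

/-! # Models over finitely generated `ℤ`-algebras of flat finitely presented modules -/

set_option autoImplicit false
universe u

namespace K75.FlatModel

open TensorProduct Groth.Agent.FlatA.FlatDescent Groth.Agent.FlatA.Model Groth.Agent.FlatA.ModelFlat

/-- Descent of a flat finitely presented module over a finitely presented algebra, with prescribed elements. -/
theorem exists_model_flat_global {R S M : Type u} [CommRing R] [CommRing S] [Algebra R S]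
    [Algebra.FinitePresentation R S] [AddCommGroup M] [Module S M] [Module R M]
    [IsScalarTower R S M] [Module.FinitePresentation S M] [hflat : Module.Flat R M] (T : Finset R) (T' : Finset S) :
    ∃ (R₀ : Subalgebra ℤ R) (S₀ M₀ : Type u) (_ : CommRing S₀) (_ : Algebra R₀ S₀)
      (_ : Algebra S₀ S) (_ : IsScalarTower R₀ S₀ S) (_ : AddCommGroup M₀) (_ : Module S₀ M₀)
      (_ : Module R₀ M₀) (_ : IsScalarTower R₀ S₀ M₀) (_ : Module S₀ M) (_ : IsScalarTower S₀ S M)
      (g : M₀ →ₗ[S₀] M),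
      R₀.FG ∧ (∀ t ∈ T, t ∈ R₀) ∧ Algebra.IsPushout R₀ R S₀ S ∧
      Algebra.FinitePresentation R₀ S₀ ∧ (∀ t ∈ T', t ∈ Set.range (algebraMap S₀ S)) ∧
      Module.FinitePresentation S₀ M₀ ∧ IsBaseChange S g ∧ Module.Flat R₀ M₀ := by
  obtain ⟨A, B, N, _, _, _, _, _, _, _, _, _, _, g, hA, hT, hpush, hB, hT', hN, hg⟩ :=
    exists_model (R := R) (S := S) (M := M) T T'
  have : Algebra.FiniteType ℤ A := A.fg_iff_finiteType.mp hA
  have hf : Module.Flat R (R ⊗[A] N) :=
    Module.Flat.of_linearEquiv ((Algebra.IsPushout.cancelBaseChange A R B S N).symm.trans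
      (hg.equiv.restrictScalars R))
  obtain ⟨s, hs⟩ := Groth.Agent.Smoothlim.FlatColimMod.exists_flat_stage_mod A R B N
  let A₁ : Subalgebra A R := Algebra.adjoin A (s : Set R)
  have hA₁ : A₁.FG := Subalgebra.fg_adjoin_finset s
  have hflat1 : Module.Flat A₁ (A₁ ⊗[A] N) := hs
  obtain ⟨B₁, N₁, _, _, _, _, _, _, _, _, _, _, _, _, _, _, _, _, g₁, hg₁⟩ :=
    exists_level_model (A := A) (B := B) (N := N) (R := R) (S := S) A₁
  have hflat : Module.Flat A₁ N₁ :=
    Module.Flat.of_linearEquiv ((Algebra.IsPushout.cancelBaseChange A A₁ B B₁ N).symm.trans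
      (hg₁.equiv.restrictScalars A₁)).symm
  obtain ⟨_, _, h₁, hh₁, -⟩ := exists_top_map (A := A) g hg g₁ hg₁
  have _ : IsScalarTower A B₁ S := IsScalarTower.of_algebraMap_eq fun x ↦ by
    rw [IsScalarTower.algebraMap_apply A B B₁, ← IsScalarTower.algebraMap_apply B B₁ S,
      ← IsScalarTower.algebraMap_apply A B S]
  have i1 : Algebra.IsPushout A₁ R B₁ S :=
    (Algebra.IsPushout.comp_iff (R := A) (S := A₁) (R' := B) (S' := B₁) (T := R)
      (T' := S)).mp hpush
  have i2 : Algebra.FinitePresentation A₁ B₁ := finitePresentation_of_isPushout (A := A) (B := B)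
  have i3 : Module.FinitePresentation B₁ N₁ :=
    FinitePresentation.of_isBaseChange g₁ hg₁
  let R₁ : Subalgebra ℤ R := A₁.restrictScalars ℤ
  let _ : Algebra R₁ B₁ := ‹Algebra A₁ B₁›
  have _ : IsScalarTower R₁ B₁ S := ‹IsScalarTower A₁ B₁ S›
  let _ : Module R₁ N₁ := ‹Module A₁ N₁›
  have _ : IsScalarTower R₁ B₁ N₁ := ‹IsScalarTower A₁ B₁ N₁›
  refine ⟨R₁, B₁, N₁, inferInstance, inferInstance, inferInstance, inferInstance,
    inferInstance, inferInstance, inferInstance, inferInstance, inferInstance, inferInstance,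
    h₁, ?_, ?_, i1, i2, ?_, i3, hh₁, hflat⟩
  · have : Algebra.FiniteType A A₁ := A₁.fg_iff_finiteType.mp hA₁
    have : Algebra.FiniteType ℤ A₁ := Algebra.FiniteType.trans (S := A) inferInstance inferInstance
    exact R₁.fg_iff_finiteType.mpr this
  · intro t ht
    exact A₁.algebraMap_mem ⟨t, hT t ht⟩
  · intro t ht
    obtain ⟨b, rfl⟩ := hT' t ht
    exact ⟨algebraMap B B₁ b, (IsScalarTower.algebraMap_apply B B₁ S b).symm⟩

end K75.FlatModel
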