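import Mathlib.RingTheory.Etale.QuasiFinite
import Mathlib.RingTheory.Ideal.MinimalPrime.Noetherian
import Mathlib.RingTheory.Localization.Away.Lemmas
import Mathlib.RingTheory.Idempotents
import Mathlib.RingTheory.TensorProduct.Pi

/-! # Étale localization and quasi-finite points (finite type algebras) -/

set_option autoImplicit false
universe u

namespace K75.QFSplit

open TensorProduct

section fib

variable {R R' S : Type u} [CommRing R] [CommRing R'] [CommRing S] [Algebra R R'] [Algebra R S]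
    {p : Ideal R} {P : Ideal R'} [p.IsPrime] [P.IsPrime] [P.LiesOver p]

omit [p.IsPrime] [P.IsPrime] in
theorem liesOver_comap (Q : Ideal (R' ⊗[R] S)) [hQP : Q.LiesOver P] :
    (Q.comap (Algebra.TensorProduct.includeRight (R := R) (A := R') (B := S)).toRingHom).LiesOver p := by
  constructor
  rw [‹P.LiesOver p›.over, hQP.over]
  ext x
  simp only [Ideal.under, Ideal.mem_comap]
  congr! 1
  simp [Algebra.TensorProduct.algebraMap_apply]

/-- `Q` over `P` in `R' ⊗ S` quasi-finite, `κ(P) = κ(p)`: then the prime below is quasi-finite over `R`. -/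
theorem quasiFiniteAt_comap [Algebra.FiniteType R S]
    (H : Function.Bijective (Ideal.ResidueField.mapₐ p P (Algebra.ofId _ _) (P.over_def p)))
    (Q : Ideal (R' ⊗[R] S)) [Q.IsPrime] [hQP : Q.LiesOver P] [Algebra.QuasiFiniteAt R' Q] :
    Algebra.QuasiFiniteAt R (Q.comap (Algebra.TensorProduct.includeRight (R := R) (A := R') (B := S)).toRingHom) := by
  let := Localization.AtPrime.algebraOfLiesOver p P
  let e : P.Fiber (R' ⊗[R] S) ≃ₐ[p.ResidueField] p.Fiber S :=
    ((Algebra.TensorProduct.cancelBaseChange _ _ P.ResidueField _ _).restrictScalars _).trans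
      (Algebra.TensorProduct.congr (.symm <| .ofBijective (Algebra.ofId _ _) H) .refl)
  let T := PrimeSpectrum.primesOverOrderIsoFiber R' (R' ⊗[R] S) P ⟨Q, inferInstance, inferInstance⟩
  have hT : T.asIdeal.comap Algebra.TensorProduct.includeRight.toRingHom = Q := by
    have h1 := PrimeSpectrum.coe_primesOverOrderIsoFiber_symm_apply (R := R') (S := R' ⊗[R] S) (p := P) T
    rw [OrderIso.symm_apply_apply] at h1
    exact h1.symm
  have h2 : Algebra.QuasiFiniteAt P.ResidueField T.asIdeal :=
    Algebra.QuasiFiniteAt.baseChange (R := R') Q (A := P.ResidueField) T.asIdeal hT.symm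
  have h3 : Algebra.QuasiFinite p.ResidueField P.ResidueField := by
    have : Module.Finite p.ResidueField P.ResidueField :=
      Module.Finite.of_surjective (Algebra.linearMap p.ResidueField P.ResidueField) H.2
    infer_instance
  have h4 : Algebra.QuasiFiniteAt p.ResidueField T.asIdeal :=
    Algebra.QuasiFinite.trans p.ResidueField P.ResidueField _
  have h5 : Algebra.QuasiFiniteAt p.ResidueField (T.asIdeal.comap e.symm.toRingHom) :=
    Algebra.QuasiFiniteAt.comap_algEquiv _ e.symm
  have hlo : (Q.comap (Algebra.TensorProduct.includeRight (R := R) (A := R') (B := S)).toRingHom).LiesOver p :=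
    liesOver_comap (P := P) Q
  refine Algebra.QuasiFiniteAt.of_quasiFiniteAt_residueField p _ (T.asIdeal.comap e.symm.toRingHom) ?_
  rw [← hT, Ideal.comap_comap, Ideal.comap_comap]
  congr 1
  ext x
  simp [e]

end fib

/-- the set of quasi-finite primes over `p` -/
def QF (R S : Type u) [CommRing R] [CommRing S] [Algebra R S] (p : Ideal R) : Set (Ideal S) :=
  {q | ∃ _ : q.IsPrime, q.LiesOver p ∧ Algebra.QuasiFiniteAt R q}

theorem finite_QF (R S : Type u) [CommRing R] [CommRing S] [Algebra R S] [Algebra.FiniteType R S] (p : Ideal R)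
    [p.IsPrime] : (QF R S p).Finite := by
  have hn : IsNoetherianRing (p.Fiber S) := Algebra.FiniteType.isNoetherianRing p.ResidueField _
  have hfin : (minimalPrimes (p.Fiber S)).Finite := minimalPrimes.finite_of_isNoetherianRing _
  refine (hfin.image fun T => T.comap Algebra.TensorProduct.includeRight.toRingHom).subset ?_
  rintro q ⟨hq, hqp, hqf⟩
  let T := PrimeSpectrum.primesOverOrderIsoFiber R S p ⟨q, inferInstance, inferInstance⟩
  have hT : T.asIdeal.comap Algebra.TensorProduct.includeRight.toRingHom = q := by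
    have h1 := PrimeSpectrum.coe_primesOverOrderIsoFiber_symm_apply (R := R) (S := S) (p := p) T
    rw [OrderIso.symm_apply_apply] at h1
    exact h1.symm
  have h2 : Algebra.QuasiFiniteAt p.ResidueField T.asIdeal :=
    Algebra.QuasiFiniteAt.baseChange (R := R) q (A := p.ResidueField) T.asIdeal hT.symm
  refine ⟨T.asIdeal, ⟨⟨inferInstance, bot_le⟩, fun T' ⟨hT', _⟩ hle => ?_⟩, hT⟩
  have : T' = T.asIdeal := Algebra.QuasiFiniteAt.eq_of_le_of_under_eq (R := p.ResidueField) hle (by
    have h3 : ∀ I : Ideal p.ResidueField, I.IsPrime → I = ⊥ := fun I hI =>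
      (Ideal.eq_bot_or_top I).resolve_right hI.ne_top
    rw [h3 (T'.under _) inferInstance, h3 (T.asIdeal.under _) inferInstance])
  exact this.ge

/-- the quotient by an idempotent has the same quasi-finite points (not containing the complement) -/
theorem quasiFiniteAt_comap_quotient {R T : Type u} [CommRing R] [CommRing T] [Algebra R T] {e : T}
    (he : IsIdempotentElem e) (q : Ideal (T ⧸ Ideal.span {1 - e})) [q.IsPrime] [hq : Algebra.QuasiFiniteAt R q] :
    Algebra.QuasiFiniteAt R (q.comap (algebraMap T (T ⧸ Ideal.span {1 - e}))) := by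
  have : IsLocalization.Away e (T ⧸ Ideal.span {1 - e}) := IsLocalization.Away.quotient_of_isIdempotentElem he
  have h1 : IsLocalization.AtPrime (Localization.AtPrime q) (q.comap (algebraMap T (T ⧸ Ideal.span {1 - e}))) :=
    IsLocalization.isLocalization_isLocalization_atPrime_isLocalization (Submonoid.powers e)
      (Localization.AtPrime q) q
  let f : Localization.AtPrime (q.comap (algebraMap T (T ⧸ Ideal.span {1 - e}))) ≃ₐ[T] Localization.AtPrime q :=
    IsLocalization.algEquiv (q.comap (algebraMap T (T ⧸ Ideal.span {1 - e}))).primeCompl _ _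
  exact (Algebra.QuasiFinite.iff_of_algEquiv (f.restrictScalars R)).mpr hq

/-- splitting off the first factor of a finite product -/
def piSuccEquiv (R : Type u) [CommRing R] {n : ℕ} (A : Fin (n + 1) → Type u) [∀ i, CommRing (A i)]
    [∀ i, Algebra R (A i)] : (∀ i, A i) ≃ₐ[R] A 0 × ∀ i : Fin n, A i.succ where
  toFun f := (f 0, fun i => f i.succ)
  invFun p := Fin.cases p.1 p.2
  left_inv f := by
    ext i
    cases i using Fin.cases <;> rfl
  right_inv p := rfl
  map_mul' _ _ := rfl
  map_add' _ _ := rfl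
  commutes' _ := rfl

/-- the conclusion of the splitting theorem, with bijective residue field extension. -/
def Concl (R S : Type u) [CommRing R] [CommRing S] [Algebra R S] (p : Ideal R) [p.IsPrime] : Prop :=
    ∃ (R' : Type u) (_ : CommRing R') (_ : Algebra R R') (_ : Algebra.Etale R R') (P : Ideal R')
      (_ : P.IsPrime) (_ : P.LiesOver p) (n : ℕ) (A : Fin n → Type u) (_ : ∀ i, CommRing (A i))
      (_ : ∀ i, Algebra R' (A i)) (B : Type u) (_ : CommRing B) (_ : Algebra R' B),
      Function.Bijective (Ideal.ResidueField.mapₐ p P (Algebra.ofId _ _) (P.over_def p)) ∧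
      Nonempty ((R' ⊗[R] S) ≃ₐ[R'] ((∀ i, A i) × B)) ∧
        (∀ i, Module.Finite R' (A i) ∧
          ∃! r : Ideal (A i), r.IsPrime ∧ r.comap (algebraMap R' (A i)) = P) ∧
        ∀ (q : Ideal B) [q.IsPrime], q.comap (algebraMap R' B) = P →
          ¬ Algebra.QuasiFiniteAt R' q

theorem concl_of_QF_eq_empty (R S : Type u) [CommRing R] [CommRing S] [Algebra R S] (p : Ideal R) [p.IsPrime]
    (h : QF R S p = ∅) : Concl R S p := by
  refine ⟨R, inferInstance, inferInstance, inferInstance, p, inferInstance, ⟨rfl⟩, 0, fun _ => R,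
    inferInstance, inferInstance, S, inferInstance, inferInstance, ?_, ?_, fun i => i.elim0, ?_⟩
  · rw! [Algebra.ofId_self, Ideal.ResidueField.mapₐ_id]; exact Function.bijective_id
  · refine ⟨(Algebra.TensorProduct.lid R S).trans ?_⟩
    exact { toFun := fun s => (fun i => i.elim0, s)
            invFun := fun x => x.2
            left_inv := fun _ => rfl
            right_inv := fun x => Prod.ext (Subsingleton.elim _ _) rfl
            map_mul' := fun x y => Prod.ext (Subsingleton.elim _ _) rfl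
            map_add' := fun x y => Prod.ext (Subsingleton.elim _ _) rfl
            commutes' := fun x => Prod.ext (Subsingleton.elim _ _) rfl }
  · intro q _ hq hqf
    have : q ∈ QF R S p := ⟨inferInstance, ⟨hq.symm⟩, hqf⟩
    rw [h] at this
    exact this

/-- unique prime over `P` is preserved under base change with trivial residue field extension -/
theorem existsUnique_baseChange {R R' A : Type u} [CommRing R] [CommRing R'] [Algebra R R'] [CommRing A] [Algebra R A]
    {p : Ideal R} {P : Ideal R'} [p.IsPrime] [P.IsPrime] [P.LiesOver p]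
    (H : Function.Bijective (Ideal.ResidueField.mapₐ p P (Algebra.ofId _ _) (P.over_def p)))
    (h : ∃! r : Ideal A, r.IsPrime ∧ r.comap (algebraMap R A) = p) :
    ∃! r : Ideal (R' ⊗[R] A), r.IsPrime ∧ r.comap (algebraMap R' (R' ⊗[R] A)) = P := by
  let F := Ideal.fiberIsoOfBijectiveResidueField H (S := A)
  obtain ⟨r, ⟨hr, hrp⟩, hu⟩ := h
  let r' := F.symm ⟨r, hr, ⟨hrp.symm⟩⟩
  refine ⟨r'.1, ⟨r'.2.1, r'.2.2.over.symm⟩, fun s ⟨hs, hsP⟩ => ?_⟩
  have h1 : F ⟨s, hs, ⟨hsP.symm⟩⟩ = ⟨r, hr, ⟨hrp.symm⟩⟩ :=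
    Subtype.ext (hu _ ⟨(F ⟨s, hs, ⟨hsP.symm⟩⟩).2.1, (F ⟨s, hs, ⟨hsP.symm⟩⟩).2.2.over.symm⟩)
  exact congrArg Subtype.val ((F.symm_apply_apply _).symm.trans (congrArg F.symm h1))

theorem exists_cons {R : Type u} [CommRing R] {n : ℕ} (P : Ideal R) (A₀ : Type u) [CommRing A₀] [Algebra R A₀]
    (A' : Fin n → Type u) [iA' : ∀ i, CommRing (A' i)] [jA' : ∀ i, Algebra R (A' i)]
    (h₀ : Module.Finite R A₀ ∧ ∃! r : Ideal A₀, r.IsPrime ∧ r.comap (algebraMap R A₀) = P)
    (h : ∀ i, Module.Finite R (A' i) ∧ ∃! r : Ideal (A' i), r.IsPrime ∧ r.comap (algebraMap R (A' i)) = P) :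
    ∃ (A : Fin (n + 1) → Type u) (_ : ∀ i, CommRing (A i)) (_ : ∀ i, Algebra R (A i)),
      Nonempty ((∀ i, A i) ≃ₐ[R] A₀ × ∀ i, A' i) ∧
        ∀ i, Module.Finite R (A i) ∧ ∃! r : Ideal (A i), r.IsPrime ∧ r.comap (algebraMap R (A i)) = P := by
  let A : Fin (n + 1) → Type u := fun i => Fin.cases (motive := fun _ => Type u) A₀ A' i
  let iA : ∀ i, CommRing (A i) := fun i => Fin.cases (motive := fun i => CommRing (A i)) ‹CommRing A₀› iA' i
  let jA : ∀ i, Algebra R (A i) := fun i => Fin.cases (motive := fun i => Algebra R (A i)) ‹Algebra R A₀› jA' i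
  exact ⟨A, iA, jA, ⟨piSuccEquiv R A⟩, fun i => Fin.cases (motive := fun i => Module.Finite R (A i) ∧
    ∃! r : Ideal (A i), r.IsPrime ∧ r.comap (algebraMap R (A i)) = P) h₀ h i⟩

/-- associativity of products of algebras -/
def prodAssocEquiv (R X Y Z : Type u) [CommRing R] [CommRing X] [CommRing Y] [CommRing Z] [Algebra R X] [Algebra R Y]
    [Algebra R Z] : (X × (Y × Z)) ≃ₐ[R] (X × Y) × Z where
  toFun x := ((x.1, x.2.1), x.2.2)
  invFun x := (x.1.1, (x.1.2, x.2))
  left_inv _ := rfl
  right_inv _ := rfl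
  map_mul' _ _ := rfl
  map_add' _ _ := rfl
  commutes' _ := rfl

theorem iso_aux {R R' R'' S A₀ B₀ B' Y Z : Type u} [CommRing R] [CommRing R'] [CommRing R''] [CommRing S] [CommRing A₀]
    [CommRing B₀] [CommRing B'] [CommRing Y] [CommRing Z] [Algebra R R'] [Algebra R R''] [Algebra R' R'']
    [IsScalarTower R R' R''] [Algebra R S] [Algebra R' A₀] [Algebra R' B₀] [Algebra R'' B'] [Algebra R'' Y]
    [Algebra R'' Z] (e₁ : R' ⊗[R] S ≃ₐ[R'] A₀ × B₀) (e₂ : R'' ⊗[R'] B₀ ≃ₐ[R''] Y × B')
    (e₃ : Z ≃ₐ[R''] (R'' ⊗[R'] A₀) × Y) : Nonempty (R'' ⊗[R] S ≃ₐ[R''] Z × B') := by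
  let f₁ : R'' ⊗[R] S ≃ₐ[R''] R'' ⊗[R'] (R' ⊗[R] S) := (Algebra.TensorProduct.cancelBaseChange R R' R'' R'' S).symm
  let f₂ : R'' ⊗[R'] (R' ⊗[R] S) ≃ₐ[R''] R'' ⊗[R'] (A₀ × B₀) := Algebra.TensorProduct.congr AlgEquiv.refl e₁
  let f₃ : R'' ⊗[R'] (A₀ × B₀) ≃ₐ[R''] (R'' ⊗[R'] A₀) × (R'' ⊗[R'] B₀) :=
    Algebra.TensorProduct.prodRight R' R'' R'' A₀ B₀
  let f₄ : ((R'' ⊗[R'] A₀) × (R'' ⊗[R'] B₀)) ≃ₐ[R''] (R'' ⊗[R'] A₀) × (Y × B') := AlgEquiv.prodCongr (AlgEquiv.refl (R := R'') (A₁ := R'' ⊗[R'] A₀)) e₂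
  let f₅ : ((R'' ⊗[R'] A₀) × (Y × B')) ≃ₐ[R''] ((R'' ⊗[R'] A₀) × Y) × B' := prodAssocEquiv _ _ _ _
  let f₆ : (((R'' ⊗[R'] A₀) × Y) × B') ≃ₐ[R''] Z × B' := AlgEquiv.prodCongr e₃.symm AlgEquiv.refl
  exact ⟨f₁.trans (f₂.trans (f₃.trans (f₄.trans (f₅.trans f₆))))⟩

theorem concl_step {R R' S A₀ B₀ : Type u} [CommRing R] [CommRing R'] [CommRing S] [CommRing A₀] [CommRing B₀]
    [Algebra R R'] [Algebra.Etale R R'] [Algebra R S] [Algebra R' A₀] [Algebra R' B₀] [Module.Finite R' A₀]
    {p : Ideal R} {P : Ideal R'} [p.IsPrime] [P.IsPrime] [P.LiesOver p]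
    (hpP : Function.Bijective (Ideal.ResidueField.mapₐ p P (Algebra.ofId _ _) (P.over_def p)))
    (huA : ∃! r : Ideal A₀, r.IsPrime ∧ r.comap (algebraMap R' A₀) = P)
    (e₁ : R' ⊗[R] S ≃ₐ[R'] A₀ × B₀) (hB : Concl R' B₀ P) : Concl R S p := by
  obtain ⟨R'', _, _, _, P'', _, _, n, A', _, _, B', _, _, hPP, ⟨e₂⟩, hA', hB'⟩ := hB
  let _ : Algebra R R'' := .compHom _ (algebraMap R R')
  have : IsScalarTower R R' R'' := .of_algebraMap_eq' rfl
  have hPp : P''.LiesOver p := .trans _ P _
  have huA'' := existsUnique_baseChange (R' := R'') (A := A₀) hPP huA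
  obtain ⟨A, _, _, ⟨e₃⟩, hA⟩ := exists_cons P'' (R'' ⊗[R'] A₀) A' ⟨inferInstance, huA''⟩ hA'
  refine ⟨R'', inferInstance, inferInstance, Algebra.Etale.comp R R' R'', P'', inferInstance, hPp, n + 1, A,
    inferInstance, inferInstance, B', inferInstance, inferInstance, ?_, ?_, hA, hB'⟩
  · convert hPP.comp hpP
    rw [← @AlgHom.coe_restrictScalars' R R', ← AlgHom.coe_comp]; congr 1; ext
  · exact iso_aux (A₀ := A₀) (B₀ := B₀) e₁ e₂ e₃

theorem concl (R S : Type u) [CommRing R] [CommRing S] [Algebra R S] [Algebra.FiniteType R S]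
    (p : Ideal R) [p.IsPrime] : Concl R S p := by
  induction h : (QF R S p).ncard using Nat.strong_induction_on generalizing R S with
  | h m IH =>
    have hfin : (QF R S p).Finite := finite_QF R S p
    rcases Set.eq_empty_or_nonempty (QF R S p) with hemp | ⟨q, hq, hqp, hqf⟩
    · exact concl_of_QF_eq_empty R S p hemp
    obtain ⟨R', _, _, _, P, _, _, e, he, P', _, _, hP'q, heP', hpP, hfinA, H⟩ :=
      Algebra.exists_etale_isIdempotentElem_forall_liesOver_eq p q
    have he' : IsIdempotentElem (1 - e) := he.one_sub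
    -- the two factors
    let T := R' ⊗[R] S
    let A₀ := T ⧸ Ideal.span {1 - e}
    let B₀ := T ⧸ Ideal.span {1 - (1 - e)}
    have hA₀ : IsLocalization.Away e A₀ := IsLocalization.Away.quotient_of_isIdempotentElem he
    have hfinA₀ : Module.Finite R' A₀ := by
      let f : Localization.Away e ≃ₐ[T] A₀ := IsLocalization.algEquiv (Submonoid.powers e) _ _
      exact Module.Finite.equiv (f.restrictScalars R').toLinearEquiv
    have hT : Nonempty (T ≃ₐ[R'] A₀ × B₀) :=
      ⟨AlgEquiv.prodQuotientOfIsIdempotentElem (R := R') he' he'.one_sub (by ring) (by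
        rw [sub_sub_cancel, sub_mul, one_mul, he.eq, sub_self])⟩
    have hft : Algebra.FiniteType R' B₀ := inferInstance
    -- the quasi-finite points of `B₀`
    have hcard : (QF R' B₀ P).ncard < m := by
      have hmem : q ∈ QF R S p := ⟨hq, hqp, hqf⟩
      have hlt : (QF R S p \ {q}).ncard < m := by
        rw [← h]
        exact Set.ncard_lt_ncard (Set.sdiff_singleton_ssubset.mpr hmem) hfin
      refine lt_of_le_of_lt (Set.ncard_le_ncard_of_injOn
        (fun Q => (Q.comap (algebraMap T B₀)).comap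
          (Algebra.TensorProduct.includeRight (R := R) (A := R') (B := S)).toRingHom) ?_ ?_
        (hfin.subset Set.sdiff_subset)) hlt
      · rintro Q ⟨hQ, hQP, hQf⟩
        have h1 : (Q.comap (algebraMap T B₀)).LiesOver P := ⟨by
          rw [hQP.over, Ideal.under, Ideal.under, Ideal.comap_comap]; rfl⟩
        have h2 : Algebra.QuasiFiniteAt R' (Q.comap (algebraMap T B₀)) := quasiFiniteAt_comap_quotient he' Q
        refine ⟨⟨inferInstance, liesOver_comap (P := P) _, quasiFiniteAt_comap hpP _⟩, ?_⟩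
        intro hQq
        have h3 : (Q.comap (algebraMap T B₀)) = P' :=
          Ideal.eq_of_comap_eq_comap_of_bijective_residueFieldMap hpP _ _ (by
            rw [hP'q]; exact hQq)
        apply heP'
        rw [← h3, Ideal.mem_comap]
        have : algebraMap T B₀ e = 0 := Ideal.Quotient.eq_zero_iff_mem.mpr (by
          rw [sub_sub_cancel]; exact Ideal.mem_span_singleton_self e)
        rw [this]
        exact Q.zero_mem
      · rintro Q₁ ⟨hQ₁, hQ₁P, -⟩ Q₂ ⟨hQ₂, hQ₂P, -⟩ h12
        have h1 : (Q₁.comap (algebraMap T B₀)).LiesOver P := ⟨by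
          rw [hQ₁P.over, Ideal.under, Ideal.under, Ideal.comap_comap]; rfl⟩
        have h2 : (Q₂.comap (algebraMap T B₀)).LiesOver P := ⟨by
          rw [hQ₂P.over, Ideal.under, Ideal.under, Ideal.comap_comap]; rfl⟩
        have h3 : (Q₁.comap (algebraMap T B₀)) = (Q₂.comap (algebraMap T B₀)) :=
          Ideal.eq_of_comap_eq_comap_of_bijective_residueFieldMap hpP _ _ h12
        exact Ideal.comap_injective_of_surjective _ Ideal.Quotient.mk_surjective h3
    -- the unique prime of `A₀`
    have huA : ∃! r : Ideal A₀, r.IsPrime ∧ r.comap (algebraMap R' A₀) = P := by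
      have hmem : 1 - e ∈ P' := by
        have h1 : e * (1 - e) ∈ P' := by
          rw [mul_sub, mul_one, he.eq, sub_self]; exact P'.zero_mem
        exact (‹P'.IsPrime›.mem_or_mem h1).resolve_left heP'
      have hker : RingHom.ker (algebraMap T A₀) ≤ P' := by
        rw [Ideal.Quotient.algebraMap_eq, Ideal.mk_ker, Ideal.span_singleton_le_iff_mem]
        exact hmem
      have hprime : (P'.map (algebraMap T A₀)).IsPrime :=
        Ideal.map_isPrime_of_surjective Ideal.Quotient.mk_surjective hker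
      have hcm : (P'.map (algebraMap T A₀)).comap (algebraMap T A₀) = P' := by
        rw [Ideal.comap_map_of_surjective' (algebraMap T A₀) Ideal.Quotient.mk_surjective, sup_eq_left]
        exact hker
      refine ⟨P'.map (algebraMap T A₀), ⟨hprime, ?_⟩, fun r ⟨hr, hrP⟩ => ?_⟩
      · have h1 : (P'.map (algebraMap T A₀)).comap (algebraMap R' A₀) = P'.under R' := by
          change _ = Ideal.comap _ _
          conv_rhs => rw [← hcm]
          rw [Ideal.comap_comap]; rfl
        rw [h1]
        exact (‹P'.LiesOver P›.over).symm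
      · have h1 : (r.comap (algebraMap T A₀)).LiesOver P := ⟨by
          rw [← hrP, Ideal.under, Ideal.comap_comap]; rfl⟩
        have h2 : e ∉ r.comap (algebraMap T A₀) := by
          intro hmem'
          have : algebraMap T A₀ e = 1 := by
            have h3 : algebraMap T A₀ (1 - e) = 0 :=
              Ideal.Quotient.eq_zero_iff_mem.mpr (Ideal.mem_span_singleton_self _)
            rw [map_sub, map_one, sub_eq_zero] at h3
            exact h3.symm
          rw [Ideal.mem_comap, this] at hmem'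
          exact hr.ne_top ((Ideal.eq_top_iff_one _).mpr hmem')
        have h3 := H (r.comap (algebraMap T A₀)) inferInstance h1 h2
        apply Ideal.comap_injective_of_surjective _ (Ideal.Quotient.mk_surjective (I := Ideal.span {1 - e}))
        exact h3.trans hcm.symm
    obtain ⟨e₁⟩ := hT
    exact concl_step hpP huA e₁ (IH _ hcard R' B₀ P rfl)

/-- trivial residue field extension: the image of the base ring generates the residue field -/
theorem closure_eq_top {R R' : Type u} [CommRing R] [CommRing R'] [Algebra R R'] {p : Ideal R} {P : Ideal R'}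
    [p.IsPrime] [P.IsPrime] [P.LiesOver p]
    (H : Function.Bijective (Ideal.ResidueField.mapₐ p P (Algebra.ofId _ _) (P.over_def p))) :
    Subfield.closure (Set.range (algebraMap R P.ResidueField)) = ⊤ := by
  rw [eq_top_iff]
  rintro x -
  obtain ⟨y, rfl⟩ := H.2 x
  obtain ⟨a, s, hs, rfl⟩ := IsFractionRing.div_surjective (A := R ⧸ p) (K := p.ResidueField) y
  obtain ⟨a, rfl⟩ := Ideal.Quotient.mk_surjective a
  obtain ⟨s, rfl⟩ := Ideal.Quotient.mk_surjective s
  rw [map_div₀]
  have h (b : R) : (Ideal.ResidueField.mapₐ p P (Algebra.ofId _ _) (P.over_def p))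
      (algebraMap (R ⧸ p) p.ResidueField (Ideal.Quotient.mk p b)) = algebraMap R P.ResidueField b := by
    rw [← Ideal.Quotient.algebraMap_eq, ← IsScalarTower.algebraMap_apply R (R ⧸ p) p.ResidueField]
    exact AlgHom.commutes _ _
  rw [h, h]
  exact div_mem (Subfield.subset_closure ⟨_, rfl⟩) (Subfield.subset_closure ⟨_, rfl⟩)

end K75.QFSplit
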