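import Groth.Agent.Proet.EtaleLiftMap
import Mathlib.RingTheory.Smooth.Basic
import Mathlib.RingTheory.Etale.Basic
import Mathlib.LinearAlgebra.TensorProduct.RightExactness

/-! # Square-zero lifts of étale algebras (flat ones are étale) -/

set_option autoImplicit false
universe u

namespace K75.SqZeroEtale

open TensorProduct

/-- the multiplication `W ⊗ I → W` -/
noncomputable def mulMap (A' W : Type u) [CommRing A'] [CommRing W] [Algebra A' W] (I : Ideal A') :
    W ⊗[A'] I →ₗ[W] W :=
  (TensorProduct.AlgebraTensorModule.rid A' W W).toLinearMap ∘ₗ (I.subtype.baseChange W)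

theorem mulMap_tmul {A' W : Type u} [CommRing A'] [CommRing W] [Algebra A' W] (I : Ideal A') (w : W) (i : I) :
    mulMap A' W I (w ⊗ₜ i) = (i : A') • w := by
  simp [mulMap]

theorem mem_map_exists {A' W : Type u} [CommRing A'] [CommRing W] [Algebra A' W] (I : Ideal A') (w : W)
    (hw : w ∈ I.map (algebraMap A' W)) : ∃ t, mulMap A' W I t = w := by
  induction hw using Submodule.span_induction with
  | mem x hx =>
    obtain ⟨i, hi, rfl⟩ := hx
    exact ⟨1 ⊗ₜ ⟨i, hi⟩, by rw [mulMap_tmul, Algebra.smul_def, mul_one]⟩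
  | zero => exact ⟨0, map_zero _⟩
  | add x y _ _ hx hy =>
    obtain ⟨s, rfl⟩ := hx
    obtain ⟨t, rfl⟩ := hy
    exact ⟨s + t, map_add _ _ _⟩
  | smul a x _ hx =>
    obtain ⟨s, rfl⟩ := hx
    exact ⟨a • s, map_smul _ _ _⟩

theorem etale_of_squareZero (A' : Type u) [CommRing A'] (A : Type u) [CommRing A]
    [Algebra A' A] (hA : Function.Surjective (algebraMap A' A))
    (hI : RingHom.ker (algebraMap A' A) ^ 2 = ⊥)
    (B' : Type u) [CommRing B'] [Algebra A' B'] (B : Type u) [CommRing B] [Algebra B' B]
    [Algebra A B] [Algebra A' B] [IsScalarTower A' A B] [IsScalarTower A' B' B]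
    (hB : Function.Surjective (algebraMap B' B)) (hJ : RingHom.ker (algebraMap B' B) ^ 2 = ⊥)
    [Algebra.Etale A B]
    (hJI : RingHom.ker (algebraMap B' B) = (RingHom.ker (algebraMap A' A)).map (algebraMap A' B'))
    (hinj : Function.Injective ((RingHom.ker (algebraMap A' A)).subtype.baseChange B')) :
    Algebra.Etale A' B' := by
  obtain ⟨W, _, _, π, hW, hπ, hkπ⟩ := Groth.Agent.Proet.EtaleLiftMap.exists_etale_lift' (T := B) hA
  set I := RingHom.ker (algebraMap A' A) with hIdef
  have hI2 : ∀ i ∈ I, ∀ j ∈ I, i * j = 0 := by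
    intro i hi j hj
    have : i * j ∈ I ^ 2 := by rw [pow_two]; exact Ideal.mul_mem_mul hi hj
    rw [hI] at this
    exact this
  let ρ : B' →ₐ[A'] B := IsScalarTower.toAlgHom A' B' B
  have hker : RingHom.ker (ρ : B' →+* B) = RingHom.ker (algebraMap B' B) := rfl
  let f : W →ₐ[A'] B' := Algebra.FormallySmooth.liftOfSurjective π ρ hB ⟨2, by rw [Ideal.zero_eq_bot, ← hJ]; rfl⟩
  have hf : ∀ w, algebraMap B' B (f w) = π w := fun w =>
    Algebra.FormallySmooth.liftOfSurjective_apply π ρ hB _ w
  -- naturality of the multiplication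
  have nat : ∀ t : W ⊗[A'] I, f (mulMap A' W I t) = mulMap A' B' I (f.toLinearMap.rTensor I t) := by
    intro t
    induction t with
    | zero => simp
    | add x y hx hy => rw [map_add, map_add, hx, hy, map_add, map_add]
    | tmul w i =>
      rw [mulMap_tmul, LinearMap.rTensor_tmul, mulMap_tmul, map_smul]
      rfl
  have hmB : Function.Injective (mulMap A' B' I) :=
    (TensorProduct.AlgebraTensorModule.rid A' B' B').injective.comp hinj
  -- `i • b' = i • f w` if `b' ≡ f w`
  have hIJ : ∀ j ∈ RingHom.ker (algebraMap B' B), ∀ i ∈ I, i • j = 0 := by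
    intro j hj i hi
    rw [hJI] at hj
    induction hj using Submodule.span_induction with
    | mem x hx =>
      obtain ⟨i', hi', rfl⟩ := hx
      rw [Algebra.smul_def, ← map_mul, hI2 i hi i' hi', map_zero]
    | zero => rw [smul_zero]
    | add x y _ _ hx hy => rw [smul_add, hx, hy, add_zero]
    | smul a x _ hx => rw [smul_comm, hx, smul_zero]
  have hfsurj1 : ∀ j ∈ RingHom.ker (algebraMap B' B), j ∈ Set.range f := by
    intro j hj
    rw [hJI] at hj
    obtain ⟨t, rfl⟩ := mem_map_exists I j hj
    clear hj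
    induction t with
    | zero => exact ⟨0, by simp⟩
    | add x y hx hy =>
      obtain ⟨a, ha⟩ := hx
      obtain ⟨b, hb⟩ := hy
      exact ⟨a + b, by rw [map_add, ha, hb, map_add]⟩
    | tmul b i =>
      obtain ⟨w, hw⟩ := hπ (algebraMap B' B b)
      refine ⟨(i : A') • w, ?_⟩
      rw [map_smul, mulMap_tmul, ← sub_eq_zero, ← smul_sub]
      apply hIJ _ _ _ i.2
      rw [RingHom.mem_ker, map_sub, hf, hw, sub_self]
  have hfsurj : Function.Surjective f := by
    intro b
    obtain ⟨w, hw⟩ := hπ (algebraMap B' B b)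
    obtain ⟨w', hw'⟩ := hfsurj1 (b - f w) (by rw [RingHom.mem_ker, map_sub, hf, hw, sub_self])
    exact ⟨w + w', by rw [map_add, hw', add_sub_cancel]⟩
  -- injectivity on `W ⊗ I`
  have hinj' : Function.Injective (f.toLinearMap.rTensor I) := by
    rw [injective_iff_map_eq_zero]
    intro t ht
    obtain ⟨s, rfl⟩ := (rTensor_exact I (LinearMap.exact_subtype_ker_map f.toLinearMap) hfsurj t).mp ht
    clear ht
    induction s with
    | zero => simp
    | add x y hx hy => rw [map_add, hx, hy, add_zero]
    | tmul k i =>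
      rw [LinearMap.rTensor_tmul]
      have hk : (k : W) ∈ I.map (algebraMap A' W) := by
        rw [← hkπ, RingHom.mem_ker]
        rw [← hf, show f (k : W) = 0 from k.2, map_zero]
      obtain ⟨t, ht⟩ := mem_map_exists I _ hk
      change (k : W) ⊗ₜ[A'] i = 0
      rw [← ht]
      clear ht hk
      induction t with
      | zero => simp
      | add x y hx hy => rw [map_add, add_tmul, hx, hy, add_zero]
      | tmul w j =>
        rw [mulMap_tmul, TensorProduct.smul_tmul]
        have : (j : A') • i = 0 := Subtype.ext (hI2 _ j.2 _ i.2)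
        rw [this, tmul_zero]
  have hfinj : Function.Injective f := by
    rw [injective_iff_map_eq_zero]
    intro w hw
    have hk : w ∈ I.map (algebraMap A' W) := by
      rw [← hkπ, RingHom.mem_ker]
      rw [← hf, hw, map_zero]
    obtain ⟨t, rfl⟩ := mem_map_exists I _ hk
    rw [nat] at hw
    have h1 : f.toLinearMap.rTensor I t = 0 := hmB (by rw [hw, map_zero])
    have h2 : t = 0 := hinj' (by rw [h1, map_zero])
    rw [h2, map_zero]
  exact Algebra.Etale.of_equiv (AlgEquiv.ofBijective f ⟨hfinj, hfsurj⟩)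

end K75.SqZeroEtale
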