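import Mathlib.RingTheory.Kaehler.Polynomial
import Mathlib.RingTheory.Unramified.Basic
import Mathlib.RingTheory.Unramified.Finite
import Mathlib.RingTheory.FinitePresentation
import Mathlib.RingTheory.Unramified.Basic

/-! # Models of unramified algebras over finitely generated `ℤ`-algebras -/

set_option autoImplicit false
universe u

namespace K75.UnramModel

open TensorProduct KaehlerDifferential MvPolynomial

theorem derivation_sum_apply {R A M ι : Type*} [CommRing R] [CommRing A] [Algebra R A] [AddCommGroup M] [Module R M]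
    [Module A M] (s : Finset ι) (D : ι → Derivation R A M) (f : A) :
    (∑ k ∈ s, D k) f = ∑ k ∈ s, D k f := by
  have := congrFun (map_sum (Derivation.coeFnAddMonoidHom (R := R) (A := A) (M := M)) D s) f
  rw [Finset.sum_apply] at this
  exact this

/-- the chain rule for derivations of a polynomial ring in finitely many variables -/
theorem derivation_eq_sum {R σ M : Type*} [CommRing R] [Fintype σ] [AddCommGroup M] [Module R M]
    [Module (MvPolynomial σ R) M] [IsScalarTower R (MvPolynomial σ R) M] (D : Derivation R (MvPolynomial σ R) M)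
    (f : MvPolynomial σ R) : D f = ∑ k, pderiv k f • D (X k) := by
  classical
  have : D = ∑ k, (LinearMap.toSpanSingleton (MvPolynomial σ R) M (D (X k))).compDer (pderiv k) := by
    apply derivation_ext
    intro i
    rw [derivation_sum_apply]
    simp [pderiv_X, Pi.single_apply]
  conv_lhs => rw [this]
  rw [derivation_sum_apply]
  simp

/-- If `P/I` is formally unramified, there are `f_i ∈ I` with `∂f_i/∂x_k ≡ δ_{ik}` mod `I`. -/
theorem exists_elements {R S σ : Type*} [CommRing R] [CommRing S] [Algebra R S] [Algebra.FormallyUnramified R S]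
    [DecidableEq σ]
    (φ : MvPolynomial σ R →ₐ[R] S) (hφ : Function.Surjective φ) (i : σ) :
    ∃ f ∈ RingHom.ker φ, ∀ k, φ (pderiv k f) = if k = i then 1 else 0 := by
  let _ : Algebra (MvPolynomial σ R) S := φ.toRingHom.toAlgebra
  have : IsScalarTower R (MvPolynomial σ R) S := IsScalarTower.of_algebraMap_eq fun r => (φ.commutes r).symm
  have hex := KaehlerDifferential.exact_kerCotangentToTensor_mapBaseChange R (MvPolynomial σ R) S hφ
  have h0 : KaehlerDifferential.mapBaseChange R (MvPolynomial σ R) S (1 ⊗ₜ D R _ (X i)) = 0 :=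
    Subsingleton.elim _ _
  obtain ⟨x, hx⟩ := (hex _).mp h0
  obtain ⟨f, rfl⟩ := Ideal.toCotangent_surjective _ x
  rw [kerCotangentToTensor_toCotangent] at hx
  refine ⟨f.1, f.2, fun k => ?_⟩
  -- coordinates
  let c : Ω[MvPolynomial σ R⁄R] →ₗ[MvPolynomial σ R] S :=
    (Algebra.linearMap (MvPolynomial σ R) S) ∘ₗ ((mvPolynomialBasis R σ).coord k)
  let ψ : S ⊗[MvPolynomial σ R] Ω[MvPolynomial σ R⁄R] →ₗ[S] S := c.liftBaseChange S
  have h1 := congrArg ψ hx
  simp only [ψ, LinearMap.liftBaseChange_tmul, one_smul] at h1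
  simp only [c, LinearMap.comp_apply, Module.Basis.coord_apply, mvPolynomialBasis_repr_apply,
    Algebra.linearMap_apply] at h1
  refine h1.trans ?_
  rw [pderiv_X]
  change φ _ = _
  by_cases h : k = i
  · subst h
    rw [if_pos rfl, Pi.single_eq_same, map_one]
  · rw [if_neg h, Pi.single_eq_of_ne (Ne.symm h), map_zero]

/-- Conversely such elements make the quotient formally unramified. -/
theorem formallyUnramified_of_elements {R S σ : Type*} [CommRing R] [CommRing S] [Algebra R S] [Fintype σ]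
    [DecidableEq σ] (φ : MvPolynomial σ R →ₐ[R] S) (hφ : Function.Surjective φ)
    (f : σ → MvPolynomial σ R) (hf : ∀ i, φ (f i) = 0)
    (hf' : ∀ i k, φ (pderiv k (f i)) = if k = i then 1 else 0) : Algebra.FormallyUnramified R S := by
  let _ : Algebra (MvPolynomial σ R) S := φ.toRingHom.toAlgebra
  have : IsScalarTower R (MvPolynomial σ R) S := IsScalarTower.of_algebraMap_eq fun r => (φ.commutes r).symm
  let D' : Derivation R (MvPolynomial σ R) Ω[S⁄R] := (D R S).compAlgebraMap (MvPolynomial σ R)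
  have hD' : ∀ g, D' g = D R S (φ g) := fun g => rfl
  have hX : ∀ i, D R S (φ (X i)) = 0 := by
    intro i
    have h1 : D' (f i) = 0 := by rw [hD', hf, map_zero]
    rw [derivation_eq_sum] at h1
    have h2 : ∀ k, pderiv k (f i) • D' (X k) = if k = i then D' (X k) else 0 := by
      intro k
      rw [← algebraMap_smul S (pderiv k (f i)) (D' (X k))]
      change φ _ • _ = _
      rw [hf']
      split_ifs <;> simp
    simp only [h2, Finset.sum_ite_eq', Finset.mem_univ, if_true] at h1
    exact h1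
  have hD0 : D' = 0 := derivation_ext fun i => by rw [hD', hX]; rfl
  refine ⟨?_⟩
  have hD : ∀ s, D R S s = 0 := by
    intro s
    obtain ⟨g, rfl⟩ := hφ s
    rw [← hD', hD0]
    rfl
  have hspan := KaehlerDifferential.span_range_derivation R S
  have h0 : Submodule.span S (Set.range (D R S)) = ⊥ := by
    rw [Submodule.span_eq_bot]
    rintro _ ⟨s, rfl⟩
    exact hD s
  rw [h0] at hspan
  exact (Submodule.subsingleton_iff S).mp (subsingleton_of_bot_eq_top hspan)

theorem exists_model (R S : Type u) [CommRing R] [CommRing S] [Algebra R S] [Algebra.Unramified R S] :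
    ∃ (R₀ : Subalgebra ℤ R) (S₀ : Type u) (_ : CommRing S₀) (_ : Algebra R₀ S₀), R₀.FG ∧
      Algebra.FinitePresentation R₀ S₀ ∧ Algebra.Unramified R₀ S₀ ∧
      ∃ ψ : R ⊗[R₀] S₀ →ₐ[R] S, Function.Surjective ψ := by
  classical
  obtain ⟨n, φ, hφ⟩ := Algebra.FiniteType.iff_quotient_mvPolynomial''.mp
    (inferInstance : Algebra.FiniteType R S)
  choose f hf hf' using fun i => exists_elements φ hφ i
  let T : Finset R := Finset.univ.biUnion fun i => (f i).coeffs
  let R₀ : Subalgebra ℤ R := Algebra.adjoin ℤ (T : Set R)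
  have hR₀ : R₀.FG := Subalgebra.fg_adjoin_finset T
  have hcoeff : ∀ i, f i ∈ Set.range (MvPolynomial.map (σ := Fin n) (algebraMap R₀ R)) := by
    intro i
    rw [MvPolynomial.mem_range_map_iff_coeffs_subset]
    intro a ha
    refine ⟨⟨a, Algebra.subset_adjoin ?_⟩, rfl⟩
    rw [Finset.mem_coe, Finset.mem_biUnion]
    exact ⟨i, Finset.mem_univ _, ha⟩
  choose f₀ hf₀ using hcoeff
  let g₀ : Fin n × Fin n → MvPolynomial (Fin n) R₀ := fun ik =>
    pderiv ik.2 (f₀ ik.1) - if ik.2 = ik.1 then 1 else 0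
  let J : Ideal (MvPolynomial (Fin n) R₀) := Ideal.span (Set.range f₀ ∪ Set.range g₀)
  have hJ : J.FG := by
    refine ⟨(Set.finite_range f₀).toFinset ∪ (Set.finite_range g₀).toFinset, ?_⟩
    simp [J]
  let S₀ := MvPolynomial (Fin n) R₀ ⧸ J
  have hfp : Algebra.FinitePresentation R₀ S₀ := Algebra.FinitePresentation.quotient hJ
  have hunr : Algebra.FormallyUnramified R₀ S₀ := by
    refine formallyUnramified_of_elements (Ideal.Quotient.mkₐ R₀ J) (Ideal.Quotient.mkₐ_surjective _ _) f₀ ?_ ?_
    · intro i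
      exact Ideal.Quotient.eq_zero_iff_mem.mpr (Ideal.subset_span (Or.inl ⟨i, rfl⟩))
    · intro i k
      have : Ideal.Quotient.mkₐ R₀ J (g₀ (i, k)) = 0 :=
        Ideal.Quotient.eq_zero_iff_mem.mpr (Ideal.subset_span (Or.inr ⟨(i, k), rfl⟩))
      simp only [g₀, map_sub, sub_eq_zero] at this
      rw [this]
      split_ifs <;> simp
  have hft : Algebra.FiniteType R₀ S₀ := inferInstance
  have hunr' : Algebra.Unramified R₀ S₀ := ⟨inferInstance, inferInstance⟩
  -- the map to `S`
  let φ₀ : MvPolynomial (Fin n) R₀ →ₐ[R₀] S :=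
    (φ.restrictScalars R₀).comp (MvPolynomial.mapAlgHom (Algebra.ofId R₀ R))
  have hφ₀ : ∀ p, φ₀ p = φ (MvPolynomial.map (algebraMap R₀ R) p) := fun p => rfl
  have hJφ : ∀ p ∈ J, φ₀ p = 0 := by
    have : J ≤ RingHom.ker φ₀ := by
      rw [Ideal.span_le]
      rintro _ (⟨i, rfl⟩ | ⟨⟨i, k⟩, rfl⟩)
      · change φ₀ _ = 0
        rw [hφ₀, hf₀]
        exact hf i
      · change φ₀ _ = 0
        rw [hφ₀, map_sub, map_sub, ← pderiv_map, hf₀, hf']
        split_ifs <;> simp
    exact this
  let ψ₀ : S₀ →ₐ[R₀] S := Ideal.Quotient.liftₐ J φ₀ hJφ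
  let ψ : R ⊗[R₀] S₀ →ₐ[R] S := Algebra.TensorProduct.lift (Algebra.ofId R S) ψ₀ (fun _ _ => Commute.all _ _)
  refine ⟨R₀, S₀, inferInstance, inferInstance, hR₀, hfp, hunr', ψ, ?_⟩
  intro s
  obtain ⟨p, rfl⟩ := hφ s
  change φ p ∈ ψ.range
  induction p using MvPolynomial.induction_on with
  | C a =>
    rw [← MvPolynomial.algebraMap_eq, AlgHom.commutes]
    exact Subalgebra.algebraMap_mem _ a
  | add p q hp hq => rw [map_add]; exact Subalgebra.add_mem _ hp hq
  | mul_X p i hp =>
    rw [map_mul]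
    refine Subalgebra.mul_mem _ hp ⟨(1 : R) ⊗ₜ[R₀] (Ideal.Quotient.mk J (X i) : S₀), ?_⟩
    change ψ ((1 : R) ⊗ₜ[R₀] (Ideal.Quotient.mk J (X i) : S₀)) = _
    rw [Algebra.TensorProduct.lift_tmul, map_one, one_mul]
    change φ₀ (X i) = _
    rw [hφ₀, map_X]

end K75.UnramModel
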