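import Groth.Agent.Flat2B.WeakAss
import Mathlib.RingTheory.Ideal.AssociatedPrime.Basic
import Mathlib.RingTheory.Ideal.AssociatedPrime.Localization
import Mathlib.Algebra.Module.LocalizedModule.AtPrime

/-! Basic facts on `FlatCA.weakAss` and `FlatCA.ass`, general versions. -/

set_option autoImplicit false
universe u v w

namespace K75.WeakAss

open FlatCA Groth.Agent.Flat2B.WeakAss

/-- an associated prime in Mathlib's sense is weakly associated. -/
theorem mem_weakAss_of_isAssociatedPrime {A : Type u} [CommRing A] {M : Type v} [AddCommGroup M] [Module A M]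
    {p : Ideal A} (h : IsAssociatedPrime p M) : p ∈ weakAss A M := by
  obtain ⟨hp, x, hx⟩ := h
  refine ⟨x, ?_⟩
  rw [← Ideal.radical_minimalPrimes]
  have : (Submodule.span A {x}).annihilator = (⊥ : Submodule A M).colon {x} := by
    ext a
    rw [Submodule.mem_annihilator_span_singleton, Submodule.mem_colon_singleton, Submodule.mem_bot]
  rw [this, ← hx, Ideal.minimalPrimes_eq_subsingleton_self]
  rfl

/-- In a local ring, the maximal ideal is weakly associated iff it is associated in Mathlib's sense. -/
theorem maximalIdeal_mem_weakAss_iff {A : Type u} [CommRing A] [IsLocalRing A] {M : Type v} [AddCommGroup M]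
    [Module A M] :
    IsLocalRing.maximalIdeal A ∈ weakAss A M ↔ IsAssociatedPrime (IsLocalRing.maximalIdeal A) M := by
  refine ⟨fun ⟨x, hx⟩ => ⟨inferInstance, x, ?_⟩, mem_weakAss_of_isAssociatedPrime⟩
  have : (Submodule.span A {x}).annihilator = (⊥ : Submodule A M).colon {x} := by
    ext a
    rw [Submodule.mem_annihilator_span_singleton, Submodule.mem_colon_singleton, Submodule.mem_bot]
  rw [this] at hx
  refine le_antisymm ?_ ?_
  · rw [Ideal.radical_eq_sInf]
    refine le_sInf fun q ⟨hq, hqp⟩ => ?_
    exact hx.2 ⟨hqp, hq⟩ (IsLocalRing.le_maximalIdeal hqp.ne_top)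
  · exact (Ideal.IsPrime.radical_le_iff inferInstance).mpr hx.1.2

theorem mem_weakAss_iff_isAssociatedPrime_localization {R : Type u} [CommRing R] (M : Type v) [AddCommGroup M]
    [Module R M] (p : Ideal R) [p.IsPrime] :
    p ∈ FlatCA.weakAss R M ↔
      IsAssociatedPrime (IsLocalRing.maximalIdeal (Localization.AtPrime p)) (LocalizedModule p.primeCompl M) := by
  have h : (IsLocalRing.maximalIdeal (Localization.AtPrime p)).comap
      (algebraMap R (Localization.AtPrime p)) = p := Localization.AtPrime.under_maximalIdeal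
  rw [← maximalIdeal_mem_weakAss_iff, mem_weakAss_localization_iff p.primeCompl
    (LocalizedModule.mkLinearMap p.primeCompl M), h]

theorem weakAss_self_eq_minimalPrimes {R : Type u} [CommRing R] [IsReduced R] :
    FlatCA.weakAss R R = minimalPrimes R := by
  ext p
  constructor
  · intro h
    have hp := isPrime_of_mem_weakAss h
    rw [mem_weakAss_iff] at h
    obtain ⟨m, h1, h2⟩ := h
    have key : ∀ f ∈ p, ∃ a : R, a ∉ p ∧ a * f * m = 0 := by
      intro f hf
      obtain ⟨n, a, ha, h⟩ := h2 f hf
      refine ⟨a, ha, ?_⟩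
      have : (a * f * m) ^ (n + 1) = 0 := by
        have e : (a * f * m) ^ (n + 1) = (a ^ n * f * m ^ n) * ((a * f ^ n) * m) := by ring
        rw [e, ← smul_eq_mul (a * f ^ n) m, h, mul_zero]
      exact eq_zero_of_pow_eq_zero this
    have hm : m ∉ p := by
      intro hm
      obtain ⟨a, ha, h⟩ := key m hm
      apply ha
      apply h1
      have : (a * m) ^ 2 = 0 := by
        have e : (a * m) ^ 2 = a * (a * m * m) := by ring
        rw [e, h, mul_zero]
      exact eq_zero_of_pow_eq_zero this
    rw [minimalPrimes, mem_minimalPrimes_iff]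
    refine ⟨bot_le, fun f hf => ?_⟩
    obtain ⟨a, ha, h⟩ := key f hf
    refine ⟨1, a * m, hp.mul_notMem ha hm, ?_⟩
    rw [Ideal.mem_bot, pow_one, ← h]
    ring
  · intro h
    refine ⟨1, ?_⟩
    have : (Submodule.span R {(1 : R)}).annihilator = ⊥ := by
      rw [eq_bot_iff]
      intro a ha
      rw [Submodule.mem_annihilator_span_singleton] at ha
      simpa using ha
    rw [this]
    exact h

theorem weakAss_subset_of_injective {R : Type u} [CommRing R] {M' : Type v} {M : Type w} [AddCommGroup M']
    [Module R M'] [AddCommGroup M] [Module R M] (f : M' →ₗ[R] M) (hf : Function.Injective f) :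
    FlatCA.weakAss R M' ⊆ FlatCA.weakAss R M := fun _ hp => mem_weakAss_of_injective f hf hp

theorem weakAss_subset_union {R : Type u} [CommRing R] {M' : Type*} {M : Type*} {M'' : Type*} [AddCommGroup M']
    [Module R M'] [AddCommGroup M] [Module R M] [AddCommGroup M''] [Module R M'']
    (f : M' →ₗ[R] M) (g : M →ₗ[R] M'') (hf : Function.Injective f) (hfg : Function.Exact f g) :
    FlatCA.weakAss R M ⊆ FlatCA.weakAss R M' ∪ FlatCA.weakAss R M'' := by
  intro p hp
  have hpp := isPrime_of_mem_weakAss hp
  rw [Set.mem_union, mem_weakAss_iff, mem_weakAss_iff]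
  rw [mem_weakAss_iff] at hp
  obtain ⟨m, h1, h2⟩ := hp
  by_cases h : ∃ (r : R) (m' : M'), r • m = f m' ∧ ∀ a : R, a • (r • m) = 0 → a ∈ p
  · obtain ⟨r, m', hr, hrm⟩ := h
    refine Or.inl ⟨m', fun a ha => hrm a ?_, fun x hx => ?_⟩
    · rw [hr, ← map_smul, ha, map_zero]
    · obtain ⟨n, a, ha, h⟩ := h2 x hx
      refine ⟨n, a, ha, hf ?_⟩
      rw [map_smul, ← hr, smul_comm, h, smul_zero, map_zero]
  · push Not at h
    refine Or.inr ⟨g m, fun a ha => ?_, fun x hx => ?_⟩
    · rw [← map_smul] at ha
      obtain ⟨m', hm'⟩ := (hfg _).mp ha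
      obtain ⟨b, hb, hbp⟩ := h a m' hm'.symm
      rw [smul_smul] at hb
      exact (hpp.mem_or_mem (h1 _ hb)).resolve_left hbp
    · obtain ⟨n, a, ha, h⟩ := h2 x hx
      exact ⟨n, a, ha, by rw [← map_smul, h, map_zero]⟩

theorem exists_mem_weakAss {R : Type u} [CommRing R] {M : Type v} [AddCommGroup M] [Module R M] (m : M)
    (hm : m ≠ 0) : ∃ p ∈ weakAss R M, (Submodule.span R {m}).annihilator ≤ p := by
  have hne : (Submodule.span R {m}).annihilator ≠ ⊤ := by
    intro h
    rw [Ideal.eq_top_iff_one, Submodule.mem_annihilator_span_singleton, one_smul] at h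
    exact hm h
  obtain ⟨P, hP, hle⟩ := Ideal.exists_le_maximal _ hne
  obtain ⟨p, hp, -⟩ := Ideal.exists_minimalPrimes_le hle
  exact ⟨p, ⟨m, hp⟩, hp.1.2⟩

theorem weakAss_eq_empty_iff {R : Type u} [CommRing R] (M : Type v) [AddCommGroup M] [Module R M] :
    weakAss R M = ∅ ↔ Subsingleton M := by
  constructor
  · intro h
    refine ⟨fun a b => ?_⟩
    by_contra hab
    obtain ⟨p, hp, -⟩ := exists_mem_weakAss (R := R) (a - b) (sub_ne_zero.mpr hab)
    rw [h] at hp
    exact hp
  · intro h
    rw [Set.eq_empty_iff_forall_notMem]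
    intro p hp
    have hpp := isPrime_of_mem_weakAss hp
    rw [mem_weakAss_iff] at hp
    obtain ⟨m, h1, -⟩ := hp
    exact hpp.ne_top ((Ideal.eq_top_iff_one _).mpr (h1 1 (Subsingleton.elim _ _)))

theorem biUnion_weakAss {R : Type u} [CommRing R] (M : Type v) [AddCommGroup M] [Module R M] :
    ⋃ q ∈ FlatCA.weakAss R M, (q : Set R) = {f : R | ¬ IsSMulRegular M f} := by
  ext f
  simp only [Set.mem_iUnion, Set.mem_ofPred_eq, SetLike.mem_coe, exists_prop]
  constructor
  · rintro ⟨q, hq, hf⟩ hreg
    have hpp := isPrime_of_mem_weakAss hq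
    rw [mem_weakAss_iff] at hq
    obtain ⟨m, h1, h2⟩ := hq
    obtain ⟨n, a, ha, h⟩ := h2 f hf
    apply ha
    apply h1
    have := hreg.pow n
    apply this
    change f ^ n • a • m = f ^ n • 0
    rw [smul_smul, mul_comm, h, smul_zero]
  · intro h
    rw [isSMulRegular_iff_right_eq_zero_of_smul] at h
    push Not at h
    obtain ⟨m, hm, hm0⟩ := h
    obtain ⟨p, hp, hle⟩ := exists_mem_weakAss (R := R) m hm0
    exact ⟨p, hp, hle ((Submodule.mem_annihilator_span_singleton _ _).mpr hm)⟩

theorem mem_ass_iff {R : Type u} [CommRing R] {M : Type v} [AddCommGroup M] [Module R M] (p : Ideal R) :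
    p ∈ ass R M ↔ p.IsPrime ∧ ∃ m : M, ∀ a : R, a ∈ p ↔ a • m = 0 := by
  refine and_congr_right fun _ => exists_congr fun m => ?_
  constructor
  · intro h a
    rw [h, Submodule.mem_annihilator_span_singleton]
  · intro h
    ext a
    rw [h, Submodule.mem_annihilator_span_singleton]

theorem mem_weakAss_of_mem_ass {R : Type u} [CommRing R] {M : Type v} [AddCommGroup M] [Module R M] {p : Ideal R}
    (h : p ∈ ass R M) : p ∈ weakAss R M := by
  obtain ⟨hp, m, hm⟩ := h
  refine ⟨m, ?_⟩
  rw [← hm, Ideal.minimalPrimes_eq_subsingleton_self]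
  rfl

theorem mem_ass_of_mem_weakAss_of_fg {R : Type u} [CommRing R] {M : Type v} [AddCommGroup M] [Module R M]
    {p : Ideal R} (hfg : p.FG) (h : p ∈ weakAss R M) : p ∈ ass R M := by
  classical
  have hp := isPrime_of_mem_weakAss h
  rw [mem_weakAss_iff] at h
  obtain ⟨m, h1, h2⟩ := h
  -- finite sets: common multiplier
  have common : ∀ (s : Finset R) (x : M), (∀ f ∈ s, ∃ a : R, a ∉ p ∧ a • f • x = 0) →
      ∃ a : R, a ∉ p ∧ ∀ f ∈ s, a • f • x = 0 := by
    intro s x hs
    choose! a ha h using hs
    refine ⟨∏ f ∈ s, a f, ?_, fun f hf => ?_⟩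
    · intro hmem
      obtain ⟨f, hf, hfp⟩ := (hp.prod_mem_iff).mp hmem
      exact ha f hf hfp
    · rw [← Finset.prod_erase_mul s a hf, mul_smul, h f hf, smul_zero]
  have spanlem : ∀ (J : Ideal R), J.FG → ∀ x : M, (∀ f ∈ J, ∃ a : R, a ∉ p ∧ a • f • x = 0) →
      ∃ a : R, a ∉ p ∧ ∀ f ∈ J, a • f • x = 0 := by
    rintro J ⟨s, rfl⟩ x hs
    obtain ⟨a, ha, h⟩ := common s x (fun f hf => hs f (Ideal.subset_span hf))
    refine ⟨a, ha, fun f hf => ?_⟩
    induction hf using Submodule.span_induction with
    | mem f hf => exact h f hf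
    | zero => simp
    | add f g _ _ hf hg => rw [add_smul, smul_add, hf, hg, add_zero]
    | smul c f _ hf => rw [smul_assoc, smul_comm a c, hf, smul_zero]
  -- some power of p is killed
  have hpow : ∃ N : ℕ, ∃ a : R, a ∉ p ∧ ∀ f ∈ p ^ N, a • f • m = 0 := by
    let J : Ideal R := { carrier := {f | ∃ a : R, a ∉ p ∧ a • f • m = 0}
                         add_mem' := by
                          rintro f g ⟨a, ha, hf⟩ ⟨b, hb, hg⟩
                          refine ⟨a * b, hp.mul_notMem ha hb, ?_⟩
                          rw [add_smul, smul_add, mul_smul a b (g • m), hg, smul_zero, add_zero,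
                            mul_comm a b, mul_smul, hf, smul_zero]
                         zero_mem' := ⟨1, (Ideal.ne_top_iff_one _).mp hp.ne_top, by simp⟩
                         smul_mem' := by
                          rintro c f ⟨a, ha, hf⟩
                          refine ⟨a, ha, ?_⟩
                          rw [smul_assoc, smul_comm a c, hf, smul_zero] }
    have hJ : p ≤ J.radical := by
      intro f hf
      obtain ⟨n, a, ha, h⟩ := h2 f hf
      exact ⟨n, a, ha, by rw [← mul_smul]; exact h⟩
    obtain ⟨N, hN⟩ := Ideal.exists_pow_le_of_le_radical_of_fg hJ hfg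
    exact ⟨N, spanlem (p ^ N) (Submodule.FG.pow hfg N) m (fun f hf => hN hf)⟩
  -- choose the least one
  obtain ⟨N, ⟨a, ha, hN⟩, hmin⟩ : ∃ N : ℕ, (∃ a : R, a ∉ p ∧ ∀ f ∈ p ^ N, a • f • m = 0) ∧
      ∀ N' < N, ¬ ∃ a : R, a ∉ p ∧ ∀ f ∈ p ^ N', a • f • m = 0 :=
    ⟨Nat.find hpow, Nat.find_spec hpow, fun N' h => Nat.find_min hpow h⟩
  cases N with
  | zero =>
    refine absurd (h1 a ?_) ha
    simpa using hN 1 (by simp)
  | succ N =>
    have h3 := hmin N (Nat.lt_succ_self N)
    have h4 : ¬ ∀ f ∈ p ^ N, ∃ b : R, b ∉ p ∧ b • f • m = 0 :=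
      fun hcon => h3 (spanlem (p ^ N) (Submodule.FG.pow hfg N) m hcon)
    push Not at h4
    obtain ⟨g, hg, hgm⟩ := h4
    refine (mem_ass_iff p).mpr ⟨hp, a • g • m, fun b => ⟨fun hb => ?_, fun hb => ?_⟩⟩
    · rw [smul_comm b a, smul_smul b g]
      exact hN (b * g) (by rw [pow_succ']; exact Ideal.mul_mem_mul hb hg)
    · by_contra hbp
      refine hgm (b * a) (hp.mul_notMem hbp ha) ?_
      rw [mul_smul]
      exact hb

/-- weakly associated primes along a surjective ring map -/
theorem weakAss_eq_image_comap_of_surjective {R : Type u} {R' : Type v} [CommRing R] [CommRing R'] [Algebra R R']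
    (hsurj : Function.Surjective (algebraMap R R')) (M : Type w) [AddCommGroup M] [Module R' M] [Module R M]
    [IsScalarTower R R' M] :
    weakAss R M = Ideal.comap (algebraMap R R') '' weakAss R' M := by
  ext p
  constructor
  · intro h
    have hp := isPrime_of_mem_weakAss h
    rw [mem_weakAss_iff] at h
    obtain ⟨m, h1, h2⟩ := h
    have hker : RingHom.ker (algebraMap R R') ≤ p := by
      intro a ha
      apply h1
      rw [← algebraMap_smul R' a m, show algebraMap R R' a = 0 from ha, zero_smul]
    have hq : (p.map (algebraMap R R')).IsPrime := Ideal.map_isPrime_of_surjective hsurj hker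
    have hqc : (p.map (algebraMap R R')).comap (algebraMap R R') = p := by
      rw [Ideal.comap_map_of_surjective' _ hsurj, sup_eq_left]
      exact hker
    refine ⟨p.map (algebraMap R R'), ?_, hqc⟩
    rw [mem_weakAss_iff]
    refine ⟨m, fun a' ha' => ?_, fun f' hf' => ?_⟩
    · obtain ⟨a, rfl⟩ := hsurj a'
      rw [algebraMap_smul] at ha'
      exact Ideal.mem_map_of_mem _ (h1 a ha')
    · obtain ⟨f, rfl⟩ := hsurj f'
      have hf : f ∈ p := by rw [← hqc]; exact hf'
      obtain ⟨n, a, ha, h⟩ := h2 f hf
      refine ⟨n, algebraMap R R' a, fun h' => ha (by rw [← hqc]; exact h'), ?_⟩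
      rw [← map_pow, ← map_mul, algebraMap_smul, h]
  · rintro ⟨q, h, rfl⟩
    have hp := isPrime_of_mem_weakAss h
    have : (q.comap (algebraMap R R')).IsPrime := Ideal.comap_isPrime _ _
    rw [mem_weakAss_iff] at h ⊢
    obtain ⟨m, h1, h2⟩ := h
    refine ⟨m, fun a ha => h1 _ (by rw [algebraMap_smul]; exact ha), fun f hf => ?_⟩
    obtain ⟨n, a', ha', h⟩ := h2 _ hf
    obtain ⟨a, rfl⟩ := hsurj a'
    refine ⟨n, a, ha', ?_⟩
    rw [← algebraMap_smul R', map_mul, map_pow]
    exact h

/-- `S⁻¹M` is its own localization as an `R`-module -/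
theorem isLocalizedModule_id {R : Type u} [CommRing R] (S : Submonoid R) (M : Type v) [AddCommGroup M] [Module R M] :
    IsLocalizedModule S (LinearMap.id : LocalizedModule S M →ₗ[R] LocalizedModule S M) := by
  refine ⟨fun s => IsLocalizedModule.map_units (LocalizedModule.mkLinearMap S M) s, fun y => ⟨(y, 1), by simp⟩,
    fun {x y} h => ⟨1, by rw [show x = y from h]⟩⟩

theorem notMem_of_mem_weakAss_localizedModule {R : Type u} [CommRing R] (S : Submonoid R) (M : Type v)
    [AddCommGroup M] [Module R M] {p : Ideal R} (h : p ∈ weakAss R (LocalizedModule S M)) (s : R) (hs : s ∈ S) :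
    s ∉ p := by
  intro hsp
  have hp := isPrime_of_mem_weakAss h
  rw [mem_weakAss_iff] at h
  obtain ⟨x, h1, h2⟩ := h
  obtain ⟨n, a, ha, h⟩ := h2 s hsp
  apply ha
  apply h1
  have hu := IsLocalizedModule.map_units (LocalizedModule.mkLinearMap S M) (⟨s, hs⟩ ^ n : S)
  have hinj := ((Module.End.isUnit_iff _).mp hu).injective
  apply hinj
  rw [map_zero]
  change (s ^ n) • (a • x) = 0
  rw [smul_smul, mul_comm, h]

theorem weakAss_localizedModule_eq {R : Type u} [CommRing R] (S : Submonoid R) (M : Type v) [AddCommGroup M]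
    [Module R M] :
    FlatCA.weakAss R (LocalizedModule S M) =
      Ideal.comap (algebraMap R (Localization S)) '' FlatCA.weakAss (Localization S) (LocalizedModule S M) := by
  have hid := isLocalizedModule_id S M
  ext p
  constructor
  · intro h
    have hp := isPrime_of_mem_weakAss h
    have hd : Disjoint (S : Set R) (p : Set R) := by
      rw [Set.disjoint_left]
      intro s hs hsp
      exact notMem_of_mem_weakAss_localizedModule S M h s hs hsp
    have hq : (p.map (algebraMap R (Localization S))).IsPrime :=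
      IsLocalization.isPrime_of_isPrime_disjoint S (Localization S) p hp hd
    have hqc : (p.map (algebraMap R (Localization S))).comap (algebraMap R (Localization S)) = p :=
      IsLocalization.under_map_of_isPrime_disjoint S (Localization S) hp hd
    refine ⟨_, ?_, hqc⟩
    rw [mem_weakAss_localization_iff S (LinearMap.id : LocalizedModule S M →ₗ[R] LocalizedModule S M), hqc]
    exact h
  · rintro ⟨q, h, rfl⟩
    have hq := isPrime_of_mem_weakAss h
    rw [mem_weakAss_localization_iff S (LinearMap.id : LocalizedModule S M →ₗ[R] LocalizedModule S M)] at h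
    exact h

theorem mem_weakAss_iff_map_mem {R : Type u} [CommRing R] (S : Submonoid R) (M : Type v) [AddCommGroup M]
    [Module R M] (p : Ideal R) [hp : p.IsPrime] (hS : Disjoint (S : Set R) (p : Set R)) :
    p ∈ FlatCA.weakAss R M ↔
      Ideal.map (algebraMap R (Localization S)) p ∈ FlatCA.weakAss (Localization S) (LocalizedModule S M) := by
  have hq : (p.map (algebraMap R (Localization S))).IsPrime :=
    IsLocalization.isPrime_of_isPrime_disjoint S (Localization S) p hp hS
  have hqc : (p.map (algebraMap R (Localization S))).comap (algebraMap R (Localization S)) = p :=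
    IsLocalization.under_map_of_isPrime_disjoint S (Localization S) hp hS
  rw [mem_weakAss_localization_iff S (LocalizedModule.mkLinearMap S M), hqc]

theorem weakAss_localizedModule_subset {R : Type u} [CommRing R] (S : Submonoid R) (M : Type v) [AddCommGroup M]
    [Module R M] : FlatCA.weakAss R (LocalizedModule S M) ⊆ FlatCA.weakAss R M := by
  rw [weakAss_localizedModule_eq]
  rintro _ ⟨q, h, rfl⟩
  have hq := isPrime_of_mem_weakAss h
  rw [mem_weakAss_localization_iff S (LocalizedModule.mkLinearMap S M)] at h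
  exact h

theorem mkLinearMap_injective {R : Type u} [CommRing R] (S : Submonoid R) (M : Type v) [AddCommGroup M]
    [Module R M] (hS : ∀ s ∈ S, IsSMulRegular M s) : Function.Injective (LocalizedModule.mkLinearMap S M) := by
  intro x y h
  obtain ⟨c, hc⟩ := (IsLocalizedModule.eq_iff_exists S (LocalizedModule.mkLinearMap S M)).mp h
  exact hS c c.2 hc

theorem weakAss_eq_of_isSMulRegular {R : Type u} [CommRing R] (S : Submonoid R) (M : Type v) [AddCommGroup M]
    [Module R M] (hS : ∀ s ∈ S, IsSMulRegular M s) :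
    FlatCA.weakAss R M = FlatCA.weakAss R (LocalizedModule S M) :=
  Set.Subset.antisymm (weakAss_subset_of_injective _ (mkLinearMap_injective S M hS))
    (weakAss_localizedModule_subset S M)

theorem eq_zero_of_forall_mem_weakAss {R : Type u} [CommRing R] {M : Type v} [AddCommGroup M] [Module R M] (x : M)
    (hx : ∀ (p : Ideal R) [p.IsPrime], p ∈ FlatCA.weakAss R M →
      LocalizedModule.mkLinearMap p.primeCompl M x = 0) : x = 0 := by
  by_contra h0
  obtain ⟨p, hp, hle⟩ := exists_mem_weakAss (R := R) x h0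
  have hpp := isPrime_of_mem_weakAss hp
  have h1 := hx p hp
  rw [← map_zero (LocalizedModule.mkLinearMap p.primeCompl M)] at h1
  obtain ⟨c, hc⟩ := (IsLocalizedModule.eq_iff_exists p.primeCompl
    (LocalizedModule.mkLinearMap p.primeCompl M)).mp h1
  exact c.2 (hle ((Submodule.mem_annihilator_span_singleton _ _).mpr (by simpa [Submonoid.smul_def] using hc)))

theorem image_comap_ass_subset {R : Type u} {S : Type v} [CommRing R] [CommRing S] [Algebra R S] (M : Type w)
    [AddCommGroup M] [Module S M] [Module R M] [IsScalarTower R S M] :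
    Ideal.comap (algebraMap R S) '' FlatCA.ass S M ⊆ FlatCA.ass R M := by
  rintro _ ⟨q, h, rfl⟩
  rw [mem_ass_iff] at h ⊢
  obtain ⟨hq, m, hm⟩ := h
  refine ⟨Ideal.comap_isPrime _ _, m, fun a => ?_⟩
  rw [Ideal.mem_comap, hm, algebraMap_smul]

theorem smul_eq_zero_localizedModule_iff {R : Type u} [CommRing R] (S : Submonoid R) {M : Type v}
    [AddCommGroup M] [Module R M] (s : R) (hs : s ∈ S) (x : LocalizedModule S M) : s • x = 0 ↔ x = 0 := by
  refine ⟨fun h => ?_, fun h => by rw [h, smul_zero]⟩
  have hu := IsLocalizedModule.map_units (LocalizedModule.mkLinearMap S M) (⟨s, hs⟩ : S)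
  have hinj := ((Module.End.isUnit_iff _).mp hu).injective
  apply hinj
  rw [map_zero]
  exact h

theorem ass_localizedModule_eq {R : Type u} [CommRing R] (S : Submonoid R) (M : Type v) [AddCommGroup M]
    [Module R M] :
    FlatCA.ass R (LocalizedModule S M) =
      Ideal.comap (algebraMap R (Localization S)) '' FlatCA.ass (Localization S) (LocalizedModule S M) := by
  refine Set.Subset.antisymm ?_ (image_comap_ass_subset _)
  intro p h
  rw [mem_ass_iff] at h
  obtain ⟨hp, x, hx⟩ := h
  have hd : Disjoint (S : Set R) (p : Set R) := by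
    rw [Set.disjoint_left]
    intro s hs hsp
    have h1 := (hx s).mp hsp
    rw [smul_eq_zero_localizedModule_iff S s hs] at h1
    exact hp.ne_top ((Ideal.eq_top_iff_one _).mpr ((hx 1).mpr (by rw [h1, smul_zero])))
  have hq : (p.map (algebraMap R (Localization S))).IsPrime :=
    IsLocalization.isPrime_of_isPrime_disjoint S (Localization S) p hp hd
  have hqc : (p.map (algebraMap R (Localization S))).comap (algebraMap R (Localization S)) = p :=
    IsLocalization.under_map_of_isPrime_disjoint S (Localization S) hp hd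
  refine ⟨_, ?_, hqc⟩
  rw [mem_ass_iff]
  refine ⟨hq, x, fun a' => ?_⟩
  obtain ⟨a, s, rfl⟩ := IsLocalization.exists_mk'_eq S a'
  rw [IsLocalization.mk'_mem_iff, ← Ideal.mem_comap, hqc, hx,
    ← smul_eq_zero_localizedModule_iff S (s : R) s.2 (IsLocalization.mk' (Localization S) a s • x),
    ← algebraMap_smul (Localization S) (s : R), smul_smul, IsLocalization.mk'_spec', algebraMap_smul]

theorem mem_ass_localizedModule {R : Type u} [CommRing R] (S : Submonoid R) (M : Type v) [AddCommGroup M]
    [Module R M] (p : Ideal R) (h : p ∈ FlatCA.ass R M) (hd : Disjoint (S : Set R) (p : Set R)) :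
    p ∈ FlatCA.ass R (LocalizedModule S M) := by
  rw [mem_ass_iff] at h ⊢
  obtain ⟨hp, m, hm⟩ := h
  refine ⟨hp, LocalizedModule.mkLinearMap S M m, fun a => ⟨fun ha => ?_, fun ha => ?_⟩⟩
  · rw [← map_smul, (hm a).mp ha, map_zero]
  · rw [← map_smul, ← map_zero (LocalizedModule.mkLinearMap S M)] at ha
    obtain ⟨c, hc⟩ := (IsLocalizedModule.eq_iff_exists S (LocalizedModule.mkLinearMap S M)).mp ha
    have : (c : R) * a ∈ p := (hm _).mpr (by rw [mul_smul]; simpa [Submonoid.smul_def] using hc)
    exact (hp.mem_or_mem this).resolve_left (fun h => Set.disjoint_left.mp hd c.2 h)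

theorem ass_eq_of_isSMulRegular {R : Type u} [CommRing R] (S : Submonoid R) (M : Type v) [AddCommGroup M]
    [Module R M] (hS : ∀ s ∈ S, IsSMulRegular M s) :
    FlatCA.ass R M = FlatCA.ass R (LocalizedModule S M) := by
  have hinj := mkLinearMap_injective S M hS
  ext p
  rw [mem_ass_iff, mem_ass_iff]
  refine and_congr_right fun hp => ⟨fun ⟨m, hm⟩ => ⟨LocalizedModule.mkLinearMap S M m, fun a => ?_⟩,
    fun ⟨x, hx⟩ => ?_⟩
  · rw [hm, ← map_smul, map_eq_zero_iff _ hinj]
  · obtain ⟨⟨m, s⟩, hms⟩ := IsLocalizedModule.surj S (LocalizedModule.mkLinearMap S M) x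
    replace hms : (s : R) • x = LocalizedModule.mkLinearMap S M m := hms
    refine ⟨m, fun a => ?_⟩
    rw [hx, ← smul_eq_zero_localizedModule_iff S (s : R) s.2, smul_comm, hms, ← map_smul, map_eq_zero_iff _ hinj]

end K75.WeakAss
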