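import Groth.Agent.CAlg.K75.WeakAss
import Groth.Agent.UnramB.WeakAssTensor
import Groth.Agent.Flat2B.FlatLocusAux
import Mathlib.RingTheory.Ideal.GoingDown
import Mathlib.RingTheory.Flat.Stability
import Mathlib.RingTheory.FiniteType
import Mathlib.RingTheory.FinitePresentation

/-! Weakly associated primes and extension of the ground field. -/

set_option autoImplicit false
universe u v w

namespace K75.WeakAssField

open FlatCA Groth.Agent.Flat2B.WeakAss K75.WeakAss TensorProduct

/-- descent of weakly associated primes along a flat map for elements that come from below -/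
theorem comap_mem_weakAss_of_flat {B C : Type u} [CommRing B] [CommRing C] [Algebra B C] [Module.Flat B C]
    {X Y : Type u} [AddCommGroup X] [Module B X] [AddCommGroup Y] [Module C Y] [Module B Y] [IsScalarTower B C Y]
    (g : X →ₗ[B] Y) (hg : IsBaseChange C g) (x : X) (q : Ideal C)
    (hq : q ∈ (Submodule.span C {g x}).annihilator.minimalPrimes) :
    q.comap (algebraMap B C) ∈ weakAss B X := by
  have hqp : q.IsPrime := hq.1.1
  refine ⟨x, ⟨⟨Ideal.comap_isPrime _ _, fun b hb => ?_⟩, fun p' ⟨hp', hle⟩ hp'q => ?_⟩⟩
  · apply hq.1.2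
    rw [Submodule.mem_annihilator_span_singleton] at hb ⊢
    rw [algebraMap_smul, ← map_smul, hb, map_zero]
  · -- going down
    have hlo : q.LiesOver (q.comap (algebraMap B C)) := ⟨rfl⟩
    have hgd : Algebra.HasGoingDown B C := inferInstance
    obtain ⟨Q, hQq, hQ, hQp'⟩ := Ideal.exists_ideal_le_liesOver_of_le (p := p') (q := q.comap (algebraMap B C)) q hp'q
    have h1 : (Submodule.span C {g x}).annihilator ≤ Q := by
      intro c hc
      rw [Submodule.mem_annihilator_span_singleton] at hc
      let φ : B →ₗ[B] X := LinearMap.toSpanSingleton B X x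
      have h1 : φ.lTensor C (c ⊗ₜ[B] (1 : B)) = 0 := by
        rw [LinearMap.lTensor_tmul]
        apply hg.equiv.injective
        rw [map_zero, hg.equiv_tmul]
        simpa [φ] using hc
      obtain ⟨y, hy⟩ := (Module.Flat.lTensor_exact C (LinearMap.exact_subtype_ker_map φ) _).mp h1
      have h2 : ∀ y : C ⊗[B] (LinearMap.ker φ),
          (TensorProduct.rid B C) ((LinearMap.ker φ).subtype.lTensor C y) ∈ Q := by
        intro y
        induction y with
        | zero => simp
        | add x y hx hy => rw [map_add, map_add]; exact Q.add_mem hx hy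
        | tmul a y =>
          rw [LinearMap.lTensor_tmul, TensorProduct.rid_tmul]
          rw [Algebra.smul_def]
          refine Q.mul_mem_right _ ?_
          have : (y : B) ∈ p' := hle (by
            rw [Submodule.mem_annihilator_span_singleton]; exact y.2)
          rw [hQp'.over] at this
          exact this
      have := h2 y
      rw [hy] at this
      simpa using this
    have h2 : q ≤ Q := hq.2 ⟨hQ, h1⟩ hQq
    rw [hQp'.over]
    exact Ideal.comap_mono h2

theorem flat_subalgebra_field (k K : Type u) [Field k] [Field K] [Algebra k K] (A : Subalgebra k K) :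
    Module.Flat A K := by
  let _ : Algebra (FractionRing A) K := FractionRing.liftAlgebra A K
  have : IsScalarTower A (FractionRing A) K := inferInstance
  have : Module.Free (FractionRing A) K := Module.Free.of_divisionRing _ _
  have : Module.Flat (FractionRing A) K := Module.Flat.of_free
  exact Module.Flat.trans A (FractionRing A) K

set_option maxHeartbeats 1000000 in
theorem comap_mem_weakAss_baseChange_field {k K R : Type u} [Field k] [Field K] [Algebra k K] [CommRing R]
    [Algebra k R] (RK : Type u) [CommRing RK] [Algebra k RK] [Algebra K RK] [Algebra R RK] [IsScalarTower k K RK]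
    [IsScalarTower k R RK] [hpush : Algebra.IsPushout k K R RK] (M : Type u) [AddCommGroup M] [Module R M] (MK : Type u)
    [AddCommGroup MK] [Module RK MK] [Module R MK] [IsScalarTower R RK MK] (f : M →ₗ[R] MK)
    (hf : IsBaseChange RK f) (q : Ideal RK) [q.IsPrime] (hq : q ∈ FlatCA.weakAss RK MK) :
    q.comap (algebraMap R RK) ∈ FlatCA.weakAss R M := by
  classical
  obtain ⟨z, hz⟩ := hq
  -- the comparison maps
  let α : ∀ A : Subalgebra k K, R ⊗[k] A →ₐ[R] RK := fun A =>
    Algebra.TensorProduct.lift (Algebra.ofId R RK) ((IsScalarTower.toAlgHom k K RK).comp A.val)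
      (fun _ _ => Commute.all _ _)
  have hαt : ∀ (A : Subalgebra k K) (r : R) (a : A), α A (r ⊗ₜ a) = algebraMap R RK r * algebraMap K RK a := by
    intro A r a
    simp [α, Algebra.ofId_apply]
  -- every element of `RK` comes from some finitely generated subalgebra
  have hc : ∀ c : RK, ∃ F : Finset K, ∀ A : Subalgebra k K, (F : Set K) ⊆ A → c ∈ Set.range (α A) := by
    intro c
    have hpo : IsBaseChange K (IsScalarTower.toAlgHom k R RK).toLinearMap := Algebra.IsPushout.out
    induction c using hpo.inductionOn with
    | zero => exact ⟨∅, fun A _ => ⟨0, map_zero _⟩⟩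
    | tmul r =>
      refine ⟨∅, fun A _ => ⟨r ⊗ₜ 1, ?_⟩⟩
      rw [hαt]; simp
    | smul κ c ih =>
      obtain ⟨F, hF⟩ := ih
      refine ⟨insert κ F, fun A hA => ?_⟩
      rw [Finset.coe_insert, Set.insert_subset_iff] at hA
      obtain ⟨y, rfl⟩ := hF A hA.2
      refine ⟨(1 ⊗ₜ ⟨κ, hA.1⟩) * y, ?_⟩
      rw [map_mul, hαt, map_one, one_mul, Algebra.smul_def]
    | add c d hc hd =>
      obtain ⟨F, hF⟩ := hc
      obtain ⟨G, hG⟩ := hd
      refine ⟨F ∪ G, fun A hA => ?_⟩
      rw [Finset.coe_union, Set.union_subset_iff] at hA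
      obtain ⟨x, rfl⟩ := hF A hA.1
      obtain ⟨y, rfl⟩ := hG A hA.2
      exact ⟨x + y, map_add _ _ _⟩
  have hm : ∃ F : Finset K, ∀ A : Subalgebra k K, (F : Set K) ⊆ A →
      ∃ (s : (R ⊗[k] A) ⊗[R] M), ((hf.equiv.toLinearMap.restrictScalars R) ∘ₗ
        ((α A).toLinearMap.rTensor M)) s = z := by
    clear hz
    induction z using hf.inductionOn with
    | zero => exact ⟨∅, fun A _ => ⟨0, map_zero _⟩⟩
    | tmul m =>
      refine ⟨∅, fun A _ => ⟨1 ⊗ₜ m, ?_⟩⟩
      simp
    | smul c n ih =>
      obtain ⟨F, hF⟩ := ih
      obtain ⟨G, hG⟩ := hc c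
      refine ⟨F ∪ G, fun A hA => ?_⟩
      rw [Finset.coe_union, Set.union_subset_iff] at hA
      obtain ⟨x, rfl⟩ := hF A hA.1
      obtain ⟨y, rfl⟩ := hG A hA.2
      refine ⟨y • x, ?_⟩
      clear hF
      induction x with
      | zero => simp only [smul_zero, map_zero]
      | add x1 x2 h1 h2 => rw [smul_add, map_add, h1, h2, map_add, smul_add]
      | tmul a m =>
        rw [TensorProduct.smul_tmul']
        simp [mul_smul]
    | add c d hc hd =>
      obtain ⟨F, hF⟩ := hc
      obtain ⟨G, hG⟩ := hd
      refine ⟨F ∪ G, fun A hA => ?_⟩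
      rw [Finset.coe_union, Set.union_subset_iff] at hA
      obtain ⟨x, rfl⟩ := hF A hA.1
      obtain ⟨y, rfl⟩ := hG A hA.2
      exact ⟨x + y, map_add _ _ _⟩
  obtain ⟨F, hF⟩ := hm
  let A : Subalgebra k K := Algebra.adjoin k (F : Set K)
  obtain ⟨s, hs⟩ := hF A Algebra.subset_adjoin
  have hA : Algebra.FiniteType k A := (Subalgebra.fg_iff_finiteType A).mp (Subalgebra.fg_adjoin_finset F)
  have hAfp : Algebra.FinitePresentation k A := Algebra.FinitePresentation.of_finiteType.mp hA
  let B := R ⊗[k] A
  have hBfp : Algebra.FinitePresentation R B := inferInstance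
  have hBflat : Module.Flat R B := inferInstance
  let algB : Algebra B RK := (α A).toRingHom.toAlgebra
  let algA : Algebra A B := Algebra.TensorProduct.rightAlgebra
  have algmap : ∀ b : B, algebraMap B RK b = α A b := fun _ => rfl
  have st1 : IsScalarTower R B RK := IsScalarTower.of_algebraMap_eq (R := R) (S := B) (A := RK) fun r => by
    rw [algmap, AlgHom.commutes]
  have st2 : IsScalarTower A K RK := inferInstance
  have st3 : IsScalarTower A B RK := IsScalarTower.of_algebraMap_eq (R := A) (S := B) (A := RK) fun a => by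
    change _ = α A (1 ⊗ₜ a)
    rw [hαt, map_one, one_mul]
    rfl
  have st4 : IsScalarTower k A B := inferInstance
  have st7 : IsScalarTower k B RK := IsScalarTower.of_algebraMap_eq (R := k) (S := B) (A := RK) fun c => by
    rw [IsScalarTower.algebraMap_apply k R B, ← IsScalarTower.algebraMap_apply R B RK,
      ← IsScalarTower.algebraMap_apply k R RK]
  have hpo1 : Algebra.IsPushout k A R B := by
    have : Algebra.IsPushout k R A B := inferInstance
    exact this.symm
  have hpo2 : Algebra.IsPushout A K B RK := (Algebra.IsPushout.comp_iff k A R B).mp hpush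
  have hAK : Module.Flat A K := flat_subalgebra_field k K A
  have hBRK : Module.Flat B RK := by
    have : Algebra.IsPushout A B K RK := hpo2.symm
    exact Module.Flat.isBaseChange A B K RK this.out
  let modB : Module B MK := Module.compHom MK (algebraMap B RK)
  have st5 : IsScalarTower B RK MK := IsScalarTower.of_algebraMap_smul fun _ _ => rfl
  have st6 : IsScalarTower R B MK := ⟨fun r b m => by
    rw [← algebraMap_smul RK b m, ← algebraMap_smul RK (r • b) m, Algebra.smul_def r b, map_mul,
      ← IsScalarTower.algebraMap_apply R B RK, mul_smul, algebraMap_smul]⟩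
  let g : B ⊗[R] M →ₗ[B] MK := (IsBaseChange.lift (TensorProduct.isBaseChange R M B) f)
  have hgf : ∀ (b : B) (m : M), g (b ⊗ₜ m) = b • f m := by
    intro b m
    have : b ⊗ₜ[R] m = b • ((1 : B) ⊗ₜ[R] m) := by rw [TensorProduct.smul_tmul', smul_eq_mul, mul_one]
    rw [this, map_smul]
    congr 1
    exact IsBaseChange.lift_eq (TensorProduct.isBaseChange R M B) f m
  have hg : IsBaseChange RK g := by
    refine IsBaseChange.of_comp (R := R) (S := B) (T := RK) (TensorProduct.isBaseChange R M B) ?_
    convert hf
    ext m
    change g (1 ⊗ₜ m) = f m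
    rw [hgf, one_smul]
  have hgs : g s = z := by
    rw [← hs]
    clear hs
    induction s with
    | zero => simp
    | add x y hx hy => rw [map_add, map_add, hx, hy]
    | tmul b m =>
      rw [hgf]
      simp only [LinearMap.coe_comp, Function.comp_apply, LinearMap.rTensor_tmul, LinearMap.coe_restrictScalars,
        LinearEquiv.coe_coe, AlgHom.toLinearMap_apply]
      rw [hf.equiv_tmul, ← algebraMap_smul RK b, algmap]
  have key := comap_mem_weakAss_of_flat g hg s q (by rw [hgs]; exact hz)
  have h2 := (Groth.Agent.UnramB.WeakAssTensor.mem_weakAss_tensor_iff (R := R) (S := B) B M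
    ((q.comap (algebraMap B RK)).comap (algebraMap R B)) (q.comap (algebraMap B RK))
    (Groth.Agent.Flat2B.FlatLocusAux.flatAt_of_flat _ _)).mp key
  have h3 := h2.1
  rw [Ideal.comap_comap, ← IsScalarTower.algebraMap_eq] at h3
  exact h3

end K75.WeakAssField
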